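import Cfsg.Agent.Lib.H66.RankTwo.Main

/-!
Blackburn's theorem on the `p`-groups of rank at most two.
-/

set_option autoImplicit false
set_option linter.style.haveILetI false

namespace Cfsg.Agent.Lib.H66.RankTwo

open Subgroup
open scoped commutatorElement

universe u

variable {p : ℕ} [hp : Fact p.Prime] {G : Type u} [Group G] [Finite G]

/-- Blackburn: `p`-groups of rank at most two for odd `p`. -/
theorem blackburn (hp2 : p ≠ 2) (n : ℕ) (hG : Nat.card G = p ^ n) (hrk : Cfsg.PRankLE p 2 G) :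
    Cfsg.IsMetacyclic G ∨
    (3 ≤ n ∧ ∃ x y z : G, closure ({x, y, z} : Set G) = ⊤ ∧ x ^ p = 1 ∧ y ^ p = 1 ∧
        z ^ p ^ (n - 2) = 1 ∧
        x * z = z * x ∧ y * z = z * y ∧ x⁻¹ * y * x = y * z ^ p ^ (n - 3)) ∨
    (4 ≤ n ∧ ∃ (s : ℕ) (x y z : G), (s = 1 ∨ ¬ IsSquare (s : ZMod p)) ∧
        closure ({x, y, z} : Set G) = ⊤ ∧
        x ^ p = 1 ∧ y ^ p = 1 ∧ z ^ p ^ (n - 2) = 1 ∧ y * z = z * y ∧
        x⁻¹ * y * x = y * z ^ (s * p ^ (n - 3)) ∧ x⁻¹ * z * x = y * z) ∨
    (p = 3 ∧ 2 ≤ n ∧ (⊤ : Subgroup G).lowerCentralSeries (n - 2) ≠ ⊥) := by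
  have hpG : IsPGroup p G := IsPGroup.of_card hG
  by_cases hcyc : IsCyclic G
  · exact Or.inl ⟨⊤, inferInstance, Subgroup.topEquiv.isCyclic.mpr hcyc,
      isCyclic_of_surjective _ (QuotientGroup.mk'_surjective ⊤)⟩
  obtain ⟨E, -, hEn, hE, hEcard⟩ := Regular.exists_normal_elem_sq hp2 hpG ⊤
    (fun h => hcyc (Subgroup.topEquiv.isCyclic.mp h))
  have S : Setup p G E := ⟨hp2, hpG, hrk, hEn, hE, hEcard⟩
  haveI := S.normal
  set C := centralizer (E : Set G) with hCdef
  by_cases hC : C = ⊤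
  · refine Or.inl (isMetacyclic_of_index_Pw_le hp2 hpG ?_)
    have hle : UG p E ≤ Pw p G := by
      rw [UG, map_le_iff_le_comap, Pw, closure_le]
      rintro _ ⟨a, rfl⟩
      exact pow_mem_Pw (a : G)
    refine (Nat.le_of_dvd (Nat.pos_of_ne_zero index_ne_zero_of_finite) (index_dvd_of_le hle)).trans ?_
    rw [UG, index_map_subtype, show (centralizer (E : Set G)).index = 1 from index_eq_one.mpr hC, mul_one]
    exact S.index_Pw
  by_cases hUx : ∃ x : G, x ^ p ∉ UG p E
  · obtain ⟨x, hx⟩ := hUx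
    exact Or.inl (isMetacyclic_of_index_Pw_le hp2 hpG (S.index_Pw_le_of_notMem hx))
  push Not at hUx
  obtain ⟨x, -, hx⟩ := SetLike.exists_of_lt (lt_top_iff_ne_top.mpr hC)
  -- two possible shapes of `C`
  have hmax : ∀ y : G, p = 3 → Nat.card (centralizer ({y} : Set G)) = p ^ 2 →
      (p = 3 ∧ 2 ≤ n ∧ (⊤ : Subgroup G).lowerCentralSeries (n - 2) ≠ ⊥) := by
    intro y h3 hy
    have hn2 : 2 ≤ n := by
      have := card_subgroup_dvd_card (centralizer ({y} : Set G))
      rw [hy, hG] at this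
      exact (Nat.pow_dvd_pow_iff_le_right hp.out.one_lt).mp this
    refine ⟨h3, hn2, ?_⟩
    haveI := hpG.isNilpotent
    rw [Ne, Subgroup.lowerCentralSeries_eq_bot_iff_nilpotencyClass_le,
      nilpotencyClass_of_card_centralizer n hG hn2 y hy]
    omega
  haveI := Om_normal S.pcen
  have hOmcard : Nat.card (Om S.pcen) = p ^ 2 := by
    rw [S.Om_eq, Nat.card_congr (subgroupOfEquivOfLe S.le_C).toEquiv, S.card]
  by_cases hsmall : Nat.card (powHom hp2 S.isP_C S.pcen).range ≤ p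
  swap
  · have hbig : ∀ e ∈ E, ∃ f ∈ centralizer (E : Set G), f ^ p = e := by
      intro e he
      have hle : (powHom hp2 S.isP_C S.pcen).range ≤ Om S.pcen :=
        (powHom_range_le hp2 S.isP_C S.pcen).trans inf_le_left
      obtain ⟨k, hk⟩ := IsPGroup.iff_card.mp (S.isP_C.to_subgroup (powHom hp2 S.isP_C S.pcen).range)
      have heq : (powHom hp2 S.isP_C S.pcen).range = Om S.pcen := by
        refine eq_of_le_of_card_ge hle ?_
        rw [hOmcard, hk]
        refine Nat.pow_le_pow_right hp.out.pos ?_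
        by_contra hk2
        exact hsmall (hk ▸ (Nat.pow_le_pow_right hp.out.pos (show k ≤ 1 by omega)).trans (pow_one p).le)
      have hm : (⟨e, S.le_C he⟩ : centralizer (E : Set G)) ∈ (powHom hp2 S.isP_C S.pcen).range :=
        heq ▸ mem_Om.mpr (Subtype.ext (by simpa using S.elem.2 e he))
      obtain ⟨f, hf⟩ := hm
      exact ⟨((f : centralizer (E : Set G)) : G), SetLike.coe_mem _,
        by simpa [powHom] using congrArg Subtype.val hf⟩
    obtain ⟨h3, hc⟩ := big_case S hbig hx (hUx x)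
    exact Or.inr (Or.inr (Or.inr (hmax x h3 hc)))
  haveI hQ := isCyclic_quotient_Om hp2 S.isP_C S.pcen hsmall
  obtain ⟨q, hq⟩ := hQ.exists_generator
  obtain ⟨g, rfl⟩ := QuotientGroup.mk'_surjective _ q
  obtain ⟨m, hm⟩ := IsPGroup.iff_orderOf.mp (S.isP_C.to_quotient (Om S.pcen))
    (QuotientGroup.mk' (Om S.pcen) g)
  have hg : Cyc p E (g : G) m := by
    refine ⟨g.2, fun c hc => ?_, fun i => ?_⟩
    · obtain ⟨i, hi⟩ := mem_powers_iff_mem_zpowers.mpr (hq (QuotientGroup.mk' _ ⟨c, hc⟩))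
      simp only at hi
      rw [← map_pow, QuotientGroup.mk'_eq_mk'] at hi
      obtain ⟨e, he, hie⟩ := hi
      refine ⟨i, e, ?_, (congrArg Subtype.val hie).symm.trans (by simp)⟩
      rw [S.Om_eq, mem_subgroupOf] at he
      exact he
    · rw [← hm, orderOf_dvd_iff_pow_eq_one, ← map_pow, QuotientGroup.mk'_apply,
        QuotientGroup.eq_one_iff, S.Om_eq, mem_subgroupOf, SubgroupClass.coe_pow]
  have hcardC : Nat.card (centralizer (E : Set G)) = p ^ (m + 2) := by
    rw [← (Om S.pcen).card_mul_index, index_eq_card, hOmcard,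
      ← orderOf_eq_card_of_forall_mem_zpowers hq, hm, ← pow_add, add_comm]
  have hn : n = m + 3 := by
    have := (centralizer (E : Set G)).card_mul_index
    rw [hcardC, S.index_C hC, ← pow_succ, hG] at this
    exact (Nat.pow_right_injective hp.out.two_le this).symm
  rcases Nat.eq_zero_or_pos m with hm0 | hm0
  · -- `C = E`
    subst hm0
    right; left
    obtain ⟨hZ, hcomm⟩ := S.Zc_data hC
    have hCE : C ≤ E := fun c hc => by
      obtain ⟨i, e, he, rfl⟩ := hg.gen c hc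
      exact mul_mem ((hg.order i).mpr (by simp)) he
    have hxp : x ^ p = 1 := by
      obtain ⟨i, hi⟩ := hg.UG_le S (hUx x)
      rw [hi, pow_mul, S.elem.2 _ (hCE g.2), one_pow]
    obtain ⟨y, hy, hyZ⟩ : ∃ e ∈ E, e ∉ Zc E := by
      refine SetLike.exists_of_lt (lt_of_le_of_ne inf_le_left fun h => ?_)
      have h2 : p ^ 1 = p ^ 2 := by
        rw [pow_one, ← S.card]; exact hZ.symm.trans (congrArg (fun X : Subgroup G => Nat.card X) h)
      have := Nat.pow_right_injective hp.out.two_le h2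
      omega
    set z := y⁻¹ * (x⁻¹ * y * x) with hz
    have hzZ : z ∈ Zc E := by
      have h := hcomm x⁻¹ y hy
      have h2 : y⁻¹ * ⁅x⁻¹, y⁆ * y = ⁅x⁻¹, y⁆ := by rw [← (Zc_commute h y⁻¹).eq]; group
      rw [← h2] at h
      rwa [show y⁻¹ * ⁅x⁻¹, y⁆ * y = z by rw [hz, commutatorElement_def]; group] at h
    have hz1 : z ≠ 1 := fun h => hyZ (S.inf_centralizer hx hy (by
      rw [hz, inv_mul_eq_one, mul_assoc, eq_inv_mul_iff_mul_eq] at h; exact h))
    subst hn
    refine ⟨le_rfl, x, y, z, ?_, hxp, S.elem.2 y hy, ?_, (Zc_commute hzZ x).eq.symm,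
      (Zc_commute hzZ y).eq.symm, ?_⟩
    · refine top_le_iff.mp ((S.sup_zpowers hx).ge.trans (sup_le (hCE.trans ?_)
        (zpowers_le.mpr (subset_closure (by simp)))))
      have hlt : Zc E < Zc E ⊔ zpowers y := lt_of_le_of_ne le_sup_left fun h =>
        hyZ (h.ge (mem_sup_right (mem_zpowers y)))
      obtain ⟨k, hk⟩ := IsPGroup.iff_card.mp (S.isP.to_subgroup (Zc E ⊔ zpowers y))
      have h1 : Nat.card (Zc E) < Nat.card ↥(Zc E ⊔ zpowers y) :=
        lt_of_le_of_ne (card_le_of_le hlt.le) fun e => hlt.ne (eq_of_le_of_card_ge hlt.le e.ge)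
      rw [hZ, hk] at h1
      have heq : Zc E ⊔ zpowers y = E := eq_of_le_of_card_ge
        (sup_le Zc_le (zpowers_le.mpr hy)) (by
          rw [S.card, hk]
          refine Nat.pow_le_pow_right hp.out.pos ?_
          by_contra hk2
          exact absurd (h1.trans_le (Nat.pow_le_pow_right hp.out.pos (show k ≤ 1 by omega))) (by simp))
      rw [← heq]
      refine sup_le (fun a ha => ?_) (zpowers_le.mpr (subset_closure (by simp)))
      obtain ⟨i, rfl⟩ := exists_zpow_eq hZ hzZ hz1 ha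
      exact pow_mem (subset_closure (by simp)) i
    · simpa using Zc_pow S hzZ
    · simp [hz]
  · rcases exists_order_p S hg hm0.ne' hx (hUx x) with ⟨h3, hc⟩ | ⟨x', hx', hx'p⟩
    · exact Or.inr (Or.inr (Or.inr (hmax x h3 hc)))
    · rcases classify S hg hm0.ne' hn hx' hx'p with h | h
      · exact Or.inr (Or.inl h)
      · exact Or.inr (Or.inr (Or.inl h))

end Cfsg.Agent.Lib.H66.RankTwo
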