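import Cfsg.Agent.Lib.H66.MaxClass.Basic
import Cfsg.Agent.Lib.H66.MaxClass.Fusion
import Cfsg.Agent.Lib.PLemmas.PowerFormula
import Cfsg.Agent.Lib.Regular.Huppert
import Cfsg.Prelude.Def_OddOrderLocal

/-!
A criterion for odd `p`-groups to be metacyclic (`|G : G^p| ≤ p²`) and a criterion for maximal
class (some element has centraliser of order `p²`).
-/

set_option autoImplicit false
set_option linter.style.haveILetI false
set_option linter.unusedSectionVars false

namespace Cfsg.Agent.Lib.H66.RankTwo

open Subgroup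
open scoped commutatorElement

universe u

/-- The subgroup generated by all `p`-th powers. -/
def Pw (p : ℕ) (G : Type*) [Group G] : Subgroup G := closure (Set.range fun x : G => x ^ p)

variable {G : Type u} [Group G] {p : ℕ}

theorem pow_mem_Pw (x : G) : x ^ p ∈ Pw p G := subset_closure ⟨x, rfl⟩

instance Pw_normal : (Pw p G).Normal := by
  refine ⟨fun n hn g => ?_⟩
  induction hn using closure_induction with
  | mem x hx => obtain ⟨a, rfl⟩ := hx; simpa [← conj_pow] using pow_mem_Pw (g * a * g⁻¹)
  | one => simp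
  | mul a b _ _ ha hb => simpa [mul_assoc] using mul_mem ha hb
  | inv a _ ha => simpa [mul_assoc] using inv_mem ha

theorem map_Pw {H : Type*} [Group H] (f : G →* H) (hf : Function.Surjective f) :
    (Pw p G).map f = Pw p H := by
  rw [Pw, MonoidHom.map_closure, Pw]
  congr 1
  ext y
  constructor
  · rintro ⟨_, ⟨a, rfl⟩, rfl⟩; exact ⟨f a, (map_pow f a p).symm⟩
  · rintro ⟨b, rfl⟩; obtain ⟨a, rfl⟩ := hf b; exact ⟨_, ⟨a, rfl⟩, map_pow f a p⟩

theorem zpow_pow_comm (c : G) (k : ℤ) (n : ℕ) : (c ^ k) ^ n = (c ^ n) ^ k := by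
  rw [← zpow_natCast (c ^ k) n, ← zpow_natCast c n, zpow_comm]

/-- In class two with commutator killed by an odd `p`, the `p`-th power map is multiplicative. -/
theorem mul_pow_prime [hp : Fact p.Prime] (hp2 : p ≠ 2) {x y : G} (hc : ⁅x, y⁆ ∈ center G)
    (hcp : ⁅x, y⁆ ^ p = 1) : (x * y) ^ p = y ^ p * x ^ p := by
  have hxy : x * y = ⁅x, y⁆ * y * x := by simp only [commutatorElement_def]; group
  have h := PLemmas.mul_pow_of_class_three (c := ⁅x, y⁆) (u := 1) (v := 1) hxy
    (by rw [one_mul]; exact mem_center_iff.mp hc x) (by rw [one_mul]; exact mem_center_iff.mp hc y)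
    (one_mem _) (one_mem _) p
  obtain ⟨k, hk⟩ := PLemmas.prime_dvd_choose_succ_two hp.out hp2
  rw [h, hk, pow_mul, hcp, one_pow, one_pow, one_pow, one_mul, one_mul, one_mul]

variable [Finite G] [hp : Fact p.Prime]

theorem exists_pair (hG : IsPGroup p G) (hi : (frattini G).index ≤ p ^ 2) {x : G}
    (hx : x ∉ frattini G) : ∃ y, closure ({x, y} : Set G) = ⊤ := by
  set L := zpowers x ⊔ frattini G with hL
  by_cases hall : L = ⊤
  · refine ⟨1, frattini_nongenerating (top_le_iff.mp (hall.ge.trans (sup_le_sup_right ?_ _)))⟩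
    exact zpowers_le.mpr (subset_closure (Set.mem_insert _ _))
  obtain ⟨y, -, hy⟩ := SetLike.exists_of_lt (lt_top_iff_ne_top.mpr hall)
  refine ⟨y, frattini_nongenerating ?_⟩
  set K := closure ({x, y} : Set G) ⊔ frattini G
  obtain ⟨a, ha⟩ := IsPGroup.iff_card.mp (hG.to_subgroup (frattini G))
  obtain ⟨b, hb⟩ := IsPGroup.iff_card.mp (hG.to_subgroup L)
  obtain ⟨c, hc⟩ := IsPGroup.iff_card.mp (hG.to_subgroup K)
  have hlt : ∀ {A B : Subgroup G}, A < B → Nat.card A < Nat.card B := fun {A B} h =>
    lt_of_le_of_ne (card_le_of_le h.le) fun e => h.ne (eq_of_le_of_card_ge h.le e.ge)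
  have h1 : frattini G < L := lt_of_le_of_ne le_sup_right fun e =>
    hx (e ▸ mem_sup_left (mem_zpowers x))
  have h2 : L < K := by
    refine lt_of_le_of_ne (sup_le_sup_right (zpowers_le.mpr (subset_closure (Set.mem_insert _ _))) _) ?_
    intro e
    exact hy (e ▸ mem_sup_left (subset_closure (Set.mem_insert_of_mem _ rfl)))
  have h1' := hlt h1
  have h2' := hlt h2
  rw [ha, hb, Nat.pow_lt_pow_iff_right hp.out.one_lt] at h1'
  rw [hb, hc, Nat.pow_lt_pow_iff_right hp.out.one_lt] at h2'
  refine eq_top_of_le_card _ ?_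
  rw [← (frattini G).card_mul_index, ha, hc]
  refine (Nat.mul_le_mul_left _ hi).trans ?_
  rw [← pow_add]
  exact Nat.pow_le_pow_right hp.out.pos (by omega)

theorem exists_metacyclic_pair (hp2 : p ≠ 2) : ∀ {G : Type u} [Group G] [Finite G], IsPGroup p G →
    (Pw p G).index ≤ p ^ 2 →
    ∃ g b : G, closure ({g, b} : Set G) = ⊤ ∧ _root_.commutator G ≤ zpowers g := by
  intro G _ _
  induction hN : Nat.card G using Nat.strong_induction_on generalizing G with
  | _ N ih =>
  intro hG hi
  subst hN
  have hcom : _root_.commutator G ≤ Pw p G := by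
    haveI := hG.to_quotient (Pw p G)
    obtain ⟨k, hk⟩ := IsPGroup.iff_card.mp (hG.to_quotient (Pw p G))
    have hk2 : k ≤ 2 := by
      rw [← index_eq_card] at hk
      exact (Nat.pow_le_pow_iff_right hp.out.one_lt).mp (hk ▸ hi)
    haveI : IsMulCommutative (G ⧸ Pw p G) := by
      interval_cases k
      · haveI : Subsingleton (G ⧸ Pw p G) := (Nat.card_eq_one_iff_unique.mp (by simpa using hk)).1
        exact ⟨⟨fun a b => Subsingleton.elim _ _⟩⟩
      · haveI := isCyclic_of_prime_card (α := G ⧸ Pw p G) (p := p) (by simpa using hk)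
        infer_instance
      · exact IsPGroup.isMulCommutative_of_card_eq_prime_sq hk
    rw [_root_.commutator_def, Subgroup.commutator_le]
    intro a _ b _
    rw [← QuotientGroup.eq_one_iff, ← QuotientGroup.mk'_apply, map_commutatorElement,
      commutatorElement_eq_one_iff_mul_comm]
    exact mul_comm' _ _
  have hfrat : frattini G ≤ Pw p G := PFrattini.frattini_le hcom pow_mem_Pw
  have hfrat' : Pw p G ≤ frattini G := (closure_le _).mpr (by
    rintro _ ⟨a, rfl⟩; exact PFrattini.pow_mem_frattini hG a)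
  have hfi : (frattini G).index ≤ p ^ 2 := by rw [le_antisymm hfrat hfrat']; exact hi
  by_cases hab : _root_.commutator G = ⊥
  · by_cases hft : frattini G = ⊤
    · refine ⟨1, 1, frattini_nongenerating (by rw [hft, sup_top_eq]), ?_⟩
      rw [hab]; exact bot_le
    obtain ⟨x, -, hx⟩ := SetLike.exists_of_lt (lt_top_iff_ne_top.mpr hft)
    obtain ⟨y, hy⟩ := exists_pair hG hfi hx
    exact ⟨x, y, hy, by rw [hab]; exact bot_le⟩
  set R := ⁅_root_.commutator G, (⊤ : Subgroup G)⁆ ⊔
    closure ((fun x => x ^ p) '' (_root_.commutator G : Set G)) with hR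
  have hRc : R ≤ _root_.commutator G := sup_le (commutator_le_left _ _)
    ((closure_le _).mpr (by rintro _ ⟨a, ha, rfl⟩; exact pow_mem ha p))
  by_cases hRbot : R = ⊥
  · -- `G'` is central of exponent `p`
    rw [hR, sup_eq_bot_iff, commutator_eq_bot_iff_le_centralizer, closure_eq_bot_iff] at hRbot
    obtain ⟨hcen, hexp⟩ := hRbot
    have hcen' : _root_.commutator G ≤ center G := fun a ha => mem_center_iff.mpr fun g =>
      mem_centralizer_iff.mp (hcen ha) g (mem_top g)
    have hexp' : ∀ a ∈ _root_.commutator G, a ^ p = 1 := fun a ha => by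
      simpa using hexp ⟨a, ha, rfl⟩
    have hpow : ∀ a ∈ Pw p G, ∃ h : G, h ^ p = a := by
      intro a ha
      induction ha using closure_induction with
      | mem x hx => exact hx
      | one => exact ⟨1, one_pow p⟩
      | mul a b _ _ iha ihb =>
        obtain ⟨u, rfl⟩ := iha
        obtain ⟨v, rfl⟩ := ihb
        have hc : ⁅v, u⁆ ∈ _root_.commutator G := commutator_mem_commutator (mem_top _) (mem_top _)
        exact ⟨v * u, mul_pow_prime hp2 (hcen' hc) (hexp' _ hc)⟩
      | inv a _ iha =>
        obtain ⟨u, rfl⟩ := iha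
        exact ⟨u⁻¹, inv_pow u p⟩
    obtain ⟨x, -, hx⟩ := SetLike.exists_of_lt (lt_top_iff_ne_top.mpr (fun e : frattini G = ⊤ =>
      hab (by
        have hbot : (⊥ : Subgroup G) = ⊤ := frattini_nongenerating (by rw [e, sup_top_eq])
        exact le_bot_iff.mp (hbot ▸ le_top))))
    obtain ⟨y, hy⟩ := exists_pair hG hfi hx
    set c := ⁅x, y⁆ with hc
    have hcG : c ∈ _root_.commutator G := commutator_mem_commutator (mem_top _) (mem_top _)
    haveI : (zpowers c).Normal := Regular.zpowers_normal_of_mem_center (hcen' hcG)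
    have hGc : _root_.commutator G ≤ zpowers c := by
      have := MaxClass.lcs_one_closure_pair_le (zpowers c) (a := x) (b := y) (mem_zpowers c)
      rwa [hy] at this
    have hc1 : c ≠ 1 := fun e => hab (by rwa [e, zpowers_one_eq_bot, le_bot_iff] at hGc)
    obtain ⟨h₀, hh₀⟩ := hpow c (hcom hcG)
    obtain ⟨g, hg, hmax⟩ := Set.Finite.exists_maximalFor (fun g : G => orderOf g)
      {g : G | c ∈ zpowers g} (Set.toFinite _) ⟨h₀, hh₀ ▸ pow_mem (mem_zpowers h₀) p⟩
    have hgf : g ∉ frattini G := by
      intro hgf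
      obtain ⟨h, hh⟩ := hpow g (hfrat hgf)
      have hg1 : g ≠ 1 := by
        rintro rfl
        rw [Set.mem_ofPred_eq, zpowers_one_eq_bot, mem_bot] at hg
        exact hc1 hg
      have hlt : orderOf g < orderOf h := by
        obtain ⟨k, hk⟩ := IsPGroup.iff_orderOf.mp hG h
        rcases k with _ | k
        · rw [pow_zero, orderOf_eq_one_iff] at hk
          exact absurd (by rw [← hh, hk, one_pow]) hg1
        rw [← hh, orderOf_pow' _ hp.out.ne_zero, hk, Nat.gcd_eq_right (dvd_pow_self p k.succ_ne_zero),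
          pow_succ, Nat.mul_div_cancel _ hp.out.pos]
        exact lt_mul_of_one_lt_right (pow_pos hp.out.pos k) hp.out.one_lt
      have hle : zpowers g ≤ zpowers h := zpowers_le.mpr (hh ▸ pow_mem (mem_zpowers h) p)
      exact absurd (hmax (j := h) (hle hg) hlt.le) (not_le.mpr hlt)
    obtain ⟨b, hb⟩ := exists_pair hG hfi hgf
    exact ⟨g, b, hb, hGc.trans (zpowers_le.mpr hg)⟩
  -- quotient by a central subgroup of order `p` in `R`
  haveI : (Subgroup.closure ((fun x => x ^ p) '' (_root_.commutator G : Set G))).Normal := by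
    refine ⟨fun n hn g => ?_⟩
    induction hn using closure_induction with
    | mem x hx =>
      obtain ⟨a, ha, rfl⟩ := hx
      exact subset_closure ⟨g * a * g⁻¹, (inferInstance : (_root_.commutator G).Normal).conj_mem a ha g,
        conj_pow⟩
    | one => simp
    | mul a b _ _ ha hb => simpa [mul_assoc] using mul_mem ha hb
    | inv a _ ha => simpa [mul_assoc] using inv_mem ha
  haveI : R.Normal := by rw [hR]; exact Subgroup.sup_normal _ _
  obtain ⟨t, htR, htc, ht⟩ := Regular.exists_central_order_p hG (N := R) hRbot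
  haveI : (zpowers t).Normal := Regular.zpowers_normal_of_mem_center htc
  set f := QuotientGroup.mk' (zpowers t) with hf
  have hfs : Function.Surjective f := QuotientGroup.mk'_surjective _
  have hlt : Nat.card (G ⧸ zpowers t) < Nat.card G := by
    have := (zpowers t).card_mul_index
    rw [Nat.card_zpowers, ht, index_eq_card] at this
    rw [← this]
    exact lt_mul_of_one_lt_left Nat.card_pos hp.out.one_lt
  obtain ⟨g, b, hgb, hgc⟩ := ih _ hlt rfl (hG.to_quotient _) (by
    rw [← map_Pw f hfs]
    refine le_trans (Nat.le_of_dvd (Nat.pos_of_ne_zero index_ne_zero_of_finite) ?_) hi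
    exact index_map_dvd _ hfs)
  obtain ⟨g, rfl⟩ := hfs g
  obtain ⟨b, rfl⟩ := hfs b
  have htf : zpowers t ≤ frattini G :=
    zpowers_le.mpr (hfrat' (hcom (hRc htR)))
  have hgen : closure ({g, b} : Set G) = ⊤ := by
    refine frattini_nongenerating (top_le_iff.mp (le_trans ?_ (sup_le_sup_left htf _)))
    have h2 := congrArg (fun X => X.comap f) hgb
    rw [← Set.image_pair, ← MonoidHom.map_closure] at h2
    simp only [comap_map_eq, comap_top, hf, QuotientGroup.ker_mk'] at h2
    exact h2.ge
  have hGsup : _root_.commutator G ≤ zpowers g ⊔ zpowers t := by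
    refine le_trans (le_comap_map f _) ?_
    rw [_root_.commutator_def, map_commutator, map_top_of_surjective f hfs, ← _root_.commutator_def]
    refine (comap_mono hgc).trans ?_
    rw [← MonoidHom.map_zpowers, comap_map_eq, hf, QuotientGroup.ker_mk']
  refine ⟨g, b, hgen, ?_⟩
  by_contra hcon
  have htg : t ∉ zpowers g := fun h => hcon (hGsup.trans (sup_le le_rfl (zpowers_le.mpr h)))
  have hgf : g ∉ frattini G := by
    intro hgf
    refine hab ?_
    have hb : zpowers b = ⊤ := by
      refine frattini_nongenerating (top_le_iff.mp (hgen.ge.trans ((closure_le _).mpr ?_)))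
      rintro z (rfl | rfl)
      · exact mem_sup_right hgf
      · exact mem_sup_left (mem_zpowers _)
    rw [_root_.commutator_def, Subgroup.commutator_eq_bot_iff_le_centralizer]
    intro a _
    obtain ⟨i, rfl⟩ : a ∈ zpowers b := hb ▸ mem_top a
    refine mem_centralizer_iff.mpr fun a' _ => ?_
    obtain ⟨j, rfl⟩ : a' ∈ zpowers b := hb ▸ mem_top a'
    exact ((Commute.refl b).zpow_zpow j i).eq
  set c := ⁅b, g⁆ with hc
  obtain ⟨u, hu, s, hs, hus⟩ := mem_sup_of_normal_right.mp
    (hGsup (commutator_mem_commutator (mem_top b) (mem_top g)))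
  obtain ⟨i, rfl⟩ := mem_zpowers_iff.mp hu
  rw [← hc] at hus
  have hsc : ∀ z : G, z * s = s * z := fun z => mem_center_iff.mp (zpowers_le.mpr htc hs) z
  have hpi : (p : ℤ) ∣ i := by
    by_contra hpi
    refine hgf ?_
    obtain ⟨k, hk⟩ := IsPGroup.iff_orderOf.mp hG g
    have hcop : IsCoprime i (orderOf g : ℤ) := by
      rw [hk]; push_cast
      exact ((Nat.prime_iff_prime_int.mp hp.out).coprime_iff_not_dvd.mpr hpi).symm.pow_right
    obtain ⟨a, a', ha⟩ := hcop
    have hmem : g ^ i ∈ frattini G := by
      rw [show g ^ i = c * s⁻¹ by rw [← hus]; group]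
      exact mul_mem (hfrat' (hcom (commutator_mem_commutator (mem_top b) (mem_top g))))
        (inv_mem (htf hs))
    rw [show g = (g ^ i) ^ a by
      rw [← zpow_mul, mul_comm, show a * i = 1 - a' * (orderOf g : ℤ) by omega, zpow_sub, zpow_one,
        mul_comm a', zpow_mul, zpow_natCast, pow_orderOf_eq_one, one_zpow, inv_one, mul_one]]
    exact zpow_mem hmem a
  have hcg : Commute c g := by
    rw [← hus]
    exact (Commute.zpow_self g i).mul_left (hsc g).symm
  have hbc : b * c * b⁻¹ = c ^ i * c := by
    have hbs : b * s * b⁻¹ = s := by rw [hsc b, mul_inv_cancel_right]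
    calc b * c * b⁻¹ = (b * g * b⁻¹) ^ i * (b * s * b⁻¹) := by rw [conj_zpow, ← hus]; group
      _ = (c * g) ^ i * s := by rw [hbs, hc, commutatorElement_def]; group
      _ = c ^ i * c := by rw [hcg.mul_zpow, mul_assoc, hus]
  haveI hcn : (zpowers c).Normal := by
    refine normalizer_eq_top_iff.mp (top_le_iff.mp (hgen.ge.trans ((closure_le _).mpr ?_)))
    have key : ∀ z, z * c * z⁻¹ ∈ zpowers c → z ∈ Subgroup.normalizer (zpowers c : Set G) := by
      intro z hz
      refine mem_normalizer_fintype fun a ha => ?_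
      obtain ⟨j, rfl⟩ := mem_zpowers_iff.mp ha
      simp only [SetLike.mem_coe] at *
      rw [← conj_zpow]
      exact zpow_mem hz j
    rintro z (rfl | rfl)
    · exact key _ (by rw [← hcg.eq, mul_inv_cancel_right]; exact mem_zpowers c)
    · exact key _ (by rw [hbc]; exact mul_mem (zpow_mem (mem_zpowers c) i) (mem_zpowers c))
  have hGc : _root_.commutator G ≤ zpowers c := by
    have := MaxClass.lcs_one_closure_pair_le (zpowers c) (a := b) (b := g) (mem_zpowers c)
    rwa [Set.pair_comm, hgen] at this
  haveI hNn : (zpowers (c ^ p)).Normal := by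
    refine ⟨fun a ha z => ?_⟩
    obtain ⟨j, rfl⟩ := mem_zpowers_iff.mp ha
    obtain ⟨k, hk⟩ := mem_zpowers_iff.mp (hcn.conj_mem c (mem_zpowers c) z)
    rw [← conj_zpow, ← conj_pow, ← hk, zpow_pow_comm]
    exact zpow_mem (zpow_mem (mem_zpowers _) k) j
  have hK : MaxClass.commPre c (zpowers (c ^ p)) = ⊤ := by
    refine top_le_iff.mp (hgen.ge.trans ((closure_le _).mpr ?_))
    rintro z (rfl | rfl)
    · rw [SetLike.mem_coe, MaxClass.mem_commPre, commutatorElement_eq_one_iff_mul_comm.mpr hcg.eq.symm]
      exact one_mem _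
    · rw [SetLike.mem_coe, MaxClass.mem_commPre, commutatorElement_def, hbc, mul_inv_cancel_right]
      obtain ⟨m, rfl⟩ := hpi
      rw [zpow_mul, zpow_natCast]
      exact zpow_mem (mem_zpowers _) m
  have hRN : R ≤ zpowers (c ^ p) := by
    refine sup_le ?_ ((closure_le _).mpr ?_)
    · refine (commutator_mono hGc le_rfl).trans (Subgroup.commutator_le.mpr fun a ha z _ => ?_)
      obtain ⟨j, rfl⟩ := mem_zpowers_iff.mp ha
      rw [← QuotientGroup.eq_one_iff, ← QuotientGroup.mk'_apply, map_commutatorElement, map_zpow,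
        commutatorElement_eq_one_iff_commute]
      refine Commute.zpow_left ?_ j
      refine (commutatorElement_eq_one_iff_commute.mp ?_).symm
      rw [← map_commutatorElement, QuotientGroup.mk'_apply, QuotientGroup.eq_one_iff]
      exact MaxClass.mem_commPre.mp (hK ▸ mem_top z)
    · rintro _ ⟨a, ha, rfl⟩
      obtain ⟨j, rfl⟩ := mem_zpowers_iff.mp (hGc ha)
      show (c ^ j) ^ p ∈ _
      rw [zpow_pow_comm]
      exact zpow_mem (mem_zpowers _) j
  refine htg (zpowers_le.mpr ?_ (hRN htR))
  have hsp : s ^ p = 1 := by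
    obtain ⟨j, rfl⟩ := mem_zpowers_iff.mp hs
    rw [zpow_pow_comm, show t ^ p = 1 from ht ▸ pow_orderOf_eq_one t, one_zpow]
  rw [← hus, (show Commute (g ^ i) s from hsc _).mul_pow, hsp, mul_one]
  exact pow_mem (zpow_mem (mem_zpowers g) i) p

/-- **Huppert**: for odd `p`, `|G : G^p| ≤ p ^ 2` implies that `G` is metacyclic. -/
theorem isMetacyclic_of_index_Pw_le (hp2 : p ≠ 2) (hG : IsPGroup p G)
    (hi : (Pw p G).index ≤ p ^ 2) : Cfsg.IsMetacyclic G := by
  obtain ⟨g, b, hgb, hc⟩ := exists_metacyclic_pair hp2 hG hi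
  haveI : (zpowers g).Normal := ⟨fun a ha z => by
    have h : ⁅z, a⁆ ∈ zpowers g := hc (commutator_mem_commutator (mem_top z) (mem_top a))
    have := mul_mem h ha
    rwa [show ⁅z, a⁆ * a = z * a * z⁻¹ by simp only [commutatorElement_def]; group] at this⟩
  refine ⟨zpowers g, inferInstance, inferInstance, isCyclic_iff_exists_zpowers_eq_top.mpr
    ⟨(b : G ⧸ zpowers g), top_le_iff.mp ?_⟩⟩
  rw [← map_top_of_surjective _ (QuotientGroup.mk'_surjective (zpowers g)), ← hgb,
    MonoidHom.map_closure, closure_le, Set.image_pair]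
  rintro z (rfl | rfl)
  · rw [SetLike.mem_coe, QuotientGroup.mk'_apply, (QuotientGroup.eq_one_iff g).mpr (mem_zpowers g)]
    exact one_mem _
  · exact mem_zpowers _

/-- A `p`-group with an element whose centraliser has order `p ^ 2` has maximal class. -/
theorem nilpotencyClass_of_card_centralizer : ∀ (n : ℕ) {G : Type u} [Group G] [Finite G],
    Nat.card G = p ^ n → 2 ≤ n → ∀ x : G, Nat.card (centralizer ({x} : Set G)) = p ^ 2 →
      Group.nilpotencyClass G = n - 1 := by
  intro n
  induction n using Nat.strong_induction_on with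
  | _ n ih =>
  intro G _ _ hG hn x hx
  haveI : Nontrivial G := Finite.one_lt_card_iff_nontrivial.mp
    (hG ▸ Nat.one_lt_pow (by omega) hp.out.one_lt)
  have hpG : IsPGroup p G := IsPGroup.of_card hG
  haveI := hpG.isNilpotent
  rcases eq_or_lt_of_le hn with hn2 | hn3
  · have hcom : IsMulCommutative G := IsPGroup.isMulCommutative_of_card_eq_prime_sq (hn2 ▸ hG)
    have h1 := Group.IsNilpotent.nilpotencyClass_le_one_iff.2 hcom
    have h0 : Group.nilpotencyClass G ≠ 0 := fun e =>
      not_subsingleton G ((Group.nilpotencyClass_zero_iff_subsingleton).mp e)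
    omega
  have hxc : x ∉ center G := by
    intro hm
    rw [show centralizer ({x} : Set G) = ⊤ from eq_top_iff.2 fun g _ =>
      mem_centralizer_singleton_iff.2 (mem_center_iff.mp hm g), Subgroup.card_top, hG] at hx
    exact absurd (Nat.pow_right_injective hp.out.two_le hx) (by omega)
  have hlt : center G < centralizer ({x} : Set G) :=
    lt_of_le_of_ne (center_le_centralizer _) fun e => hxc (e ▸ mem_centralizer_singleton_iff.2 rfl)
  obtain ⟨k, hk⟩ := IsPGroup.iff_card.mp (hpG.to_subgroup (center G))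
  have hk1 : k = 1 := by
    have h1 : Nat.card (center G) < p ^ 2 := hx ▸ lt_of_le_of_ne (card_le_of_le hlt.le)
      (fun e => hlt.ne (eq_of_le_of_card_ge hlt.le e.ge))
    rw [hk, Nat.pow_lt_pow_iff_right hp.out.one_lt] at h1
    rcases k with _ | k
    · haveI := hpG.center_nontrivial
      exact absurd (Finite.one_lt_card (α := center G)) (by rw [hk]; simp)
    · omega
  rw [hk1, pow_one] at hk
  have hQ : Nat.card (G ⧸ center G) = p ^ (n - 1) := by
    have := (center G).card_mul_index
    rw [hk, hG, index_eq_card] at this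
    refine Nat.eq_of_mul_eq_mul_left hp.out.pos (this.trans ?_)
    rw [← pow_succ']; congr 1; omega
  set f := QuotientGroup.mk' (center G) with hf
  have hH : (centralizer ({f x} : Set (G ⧸ center G))).comap f = MaxClass.commPre x (center G) := by
    ext g
    rw [mem_comap, mem_centralizer_singleton_iff, MaxClass.mem_commPre, ← QuotientGroup.eq_one_iff,
      ← QuotientGroup.mk'_apply, map_commutatorElement, commutatorElement_eq_one_iff_mul_comm]
  have hup : Nat.card (centralizer ({f x} : Set (G ⧸ center G))) ≤ p ^ 2 := by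
    have h1 := (MaxClass.card_le_and_surj (MaxClass.commPre x (center G)) (center G) x
      fun g hg => hg).1
    have h2 : Nat.card ↥(centralizer ({x} : Set G) ⊓ MaxClass.commPre x (center G)) ≤ p ^ 2 :=
      hx ▸ card_le_of_le inf_le_left
    have h3 : Nat.card ((centralizer ({f x} : Set (G ⧸ center G))).comap f) =
        p * Nat.card (centralizer ({f x} : Set (G ⧸ center G))) := by
      have h4 := ((centralizer ({f x} : Set (G ⧸ center G))).comap f).card_mul_index
      rw [index_comap_of_surjective _ (QuotientGroup.mk'_surjective _),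
        ← (center G).card_mul_index, hk, index_eq_card (center G),
        ← (centralizer ({f x} : Set (G ⧸ center G))).card_mul_index, ← mul_assoc] at h4
      exact Nat.eq_of_mul_eq_mul_right (Nat.pos_of_ne_zero index_ne_zero_of_finite) h4
    rw [← hH] at h1 h2
    rw [h3, hk] at h1
    exact Nat.le_of_mul_le_mul_left (h1.trans (le_trans (Nat.mul_le_mul_right _ h2) (mul_comm _ _).le))
      hp.out.pos
  have hlow : p ^ 2 ≤ Nat.card (centralizer ({f x} : Set (G ⧸ center G))) := by
    have hQp := hpG.to_quotient (center G)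
    haveI : Nontrivial (G ⧸ center G) := Finite.one_lt_card_iff_nontrivial.mp
      (hQ ▸ Nat.one_lt_pow (by omega) hp.out.one_lt)
    obtain ⟨j, hj⟩ := IsPGroup.iff_card.mp (hQp.to_subgroup (centralizer ({f x} : Set (G ⧸ center G))))
    rw [hj]
    refine Nat.pow_le_pow_right hp.out.pos ?_
    by_contra hj1
    have hxne : f x ≠ 1 := fun e => hxc ((QuotientGroup.eq_one_iff x).mp e)
    have hle := card_le_of_le (center_le_centralizer ({f x} : Set (G ⧸ center G)))
    haveI := hQp.center_nontrivial
    have hc1 := (Finite.one_lt_card (α := center (G ⧸ center G)))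
    have heq : center (G ⧸ center G) = centralizer ({f x} : Set (G ⧸ center G)) := by
      refine eq_of_le_of_card_ge (center_le_centralizer _) ?_
      obtain ⟨l, hl⟩ := IsPGroup.iff_card.mp (hQp.to_subgroup (center (G ⧸ center G)))
      rw [hl] at hc1 ⊢
      rw [hj]
      refine Nat.pow_le_pow_right hp.out.pos ?_
      rcases l with _ | l
      · simp at hc1
      · omega
    have hfx : f x ∈ center (G ⧸ center G) := heq ▸ mem_centralizer_singleton_iff.2 rfl
    rw [show centralizer ({f x} : Set (G ⧸ center G)) = ⊤ from eq_top_iff.2 fun g _ =>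
      mem_centralizer_singleton_iff.2 (mem_center_iff.mp hfx g), Subgroup.card_top, hQ] at hj
    have := Nat.pow_right_injective hp.out.two_le hj
    omega
  have := ih (n - 1) (by omega) hQ (by omega) (f x) (le_antisymm hup hlow)
  rw [Group.nilpotencyClass_quotient_center] at this
  omega

end Cfsg.Agent.Lib.H66.RankTwo
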