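import Cfsg.Agent.Lib.H66.RankTwo.Setup

/-!
Blackburn's classification of the `p`-groups of rank at most two, `p` odd.
-/

set_option autoImplicit false
set_option linter.style.haveILetI false
set_option linter.unusedSectionVars false

namespace Cfsg.Agent.Lib.H66.RankTwo

open Subgroup
open scoped commutatorElement

universe u

/-- Iterated conjugation when the successive differences `w`, `v` and `u` are nearly central. -/
theorem conj_iter {G : Type u} [Group G] {σ : MulAut G} {f w v u : G} (hf : σ f = f * w)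
    (hw : σ w = w * v) (hv : σ v = v * u) (hu : σ u = u) (hwv : Commute w v) (_hwu : Commute w u)
    (hvu : Commute v u) (i : ℕ) :
    (σ ^ i) f = f * w ^ i * v ^ i.choose 2 * u ^ i.choose 3 := by
  induction i with
  | zero => simp
  | succ i ih =>
    rw [pow_succ', MulAut.mul_apply, ih, map_mul, map_mul, map_mul, map_pow, map_pow, map_pow, hf,
      hw, hv, hu, hwv.mul_pow, hvu.mul_pow, Nat.choose_succ_succ' i 2, Nat.choose_succ_succ' i 1,
      Nat.choose_one_right, pow_succ', pow_add, pow_add]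
    simp only [← mul_assoc]

variable {G : Type u} [Group G] [Finite G] {p : ℕ} [hp : Fact p.Prime] {E : Subgroup G}

theorem mem_UG_commute (S : Setup p G E) {f d : G} (hf : f ∈ centralizer (E : Set G))
    (hfp : (f ^ p) ^ p = 1) (hd : d ∈ UG p E) : Commute f d := by
  obtain ⟨d, hd, rfl⟩ := hd
  set F : centralizer (E : Set G) := ⟨f, hf⟩
  suffices Commute F d from congrArg Subtype.val this.eq
  induction hd using closure_induction with
  | mem y hy =>
    obtain ⟨a, rfl⟩ := hy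
    have hfp' : (F ^ p) ^ p = 1 := Subtype.ext (by simpa [F] using hfp)
    have he := comm_mem_Om S.odd S.isP_C S.pcen hfp' a
    have hcen : ∀ y, Commute ⁅F, a⁆ y := fun y =>
      (mem_center_iff.mp (S.pcen _ he) y).symm
    have key : ∀ j : ℕ, F * a ^ j = ⁅F, a⁆ ^ j * a ^ j * F := by
      intro j
      induction j with
      | zero => simp
      | succ j ih =>
        calc F * a ^ (j + 1) = F * a ^ j * a := by rw [pow_succ, mul_assoc]
          _ = ⁅F, a⁆ ^ j * (a ^ j * ⁅F, a⁆) * a * F := by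
              rw [ih, commutatorElement_def]; group
          _ = _ := by rw [← (hcen (a ^ j)).eq, pow_succ, pow_succ]; group
    show F * a ^ p = a ^ p * F
    rw [key p, mem_Om.mp he, one_mul]
  | one => exact Commute.one_right F
  | mul a b _ _ ha hb => exact ha.mul_right hb
  | inv a _ ha => exact ha.inv_right

theorem conj_pow_apply (x f : G) (i : ℕ) : ((MulAut.conj x) ^ i) f = x ^ i * f * (x ^ i)⁻¹ := by
  rw [← map_pow, MulAut.conj_apply]

/-- The case `|Ω₂(C)/Ω₁(C)| = p²`: then `p = 3` and `|C_G(x)| = p²`. -/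
theorem big_case (S : Setup p G E)
    (hbig : ∀ e ∈ E, ∃ f ∈ centralizer (E : Set G), f ^ p = e) {x : G}
    (hx : x ∉ centralizer (E : Set G)) (hxp : x ^ p ∈ UG p E) :
    p = 3 ∧ Nat.card (centralizer ({x} : Set G)) = p ^ 2 := by
  haveI := S.normal
  have hC : centralizer (E : Set G) ≠ ⊤ := fun h => hx (h ▸ mem_top x)
  obtain ⟨hZ, hcomm⟩ := S.Zc_data hC
  obtain ⟨e₀, he₀, he₀z⟩ : ∃ e ∈ E, e ∉ Zc E := by
    refine SetLike.exists_of_lt (lt_of_le_of_ne inf_le_left fun h => ?_)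
    have h2 : p ^ 1 = p ^ 2 := by
      rw [pow_one, ← S.card]; exact hZ.symm.trans (congrArg (fun X : Subgroup G => Nat.card X) h)
    have := Nat.pow_right_injective hp.out.two_le h2
    omega
  obtain ⟨f, hfC, hf⟩ := hbig e₀ he₀
  set C := centralizer (E : Set G) with hCdef
  set σ := MulAut.conj x with hσ
  have hσC : ∀ {c : G}, c ∈ C → σ c ∈ C := fun {c} hc => (inferInstance : C.Normal).conj_mem c hc x
  have hsq : ∀ {c : G}, c ^ p ∈ E → (c ^ p) ^ p = 1 := fun h => S.elem.2 _ h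
  have hmulpow : ∀ {a b : G}, a ∈ C → b ∈ C → a ^ p ∈ E → (a * b) ^ p = a ^ p * b ^ p := by
    intro a b ha hb hap
    have := mul_pow_of_sq S.odd S.isP_C S.pcen (x := (⟨a, ha⟩ : C)) (y := ⟨b, hb⟩)
      (Subtype.ext (by simpa using hsq hap))
    simpa using congrArg Subtype.val this
  set w := f⁻¹ * σ f with hw
  set z := w ^ p with hz
  have hwC : w ∈ C := mul_mem (inv_mem hfC) (hσC hfC)
  have hfp : f ^ p ∈ E := hf ▸ he₀
  have hwp : z = e₀⁻¹ * σ e₀ := by
    rw [hz, hw, hmulpow (inv_mem hfC) (hσC hfC) (by rw [inv_pow]; exact inv_mem hfp), inv_pow,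
      ← map_pow, hf]
  have hzZ : z ∈ Zc E := by
    rw [hwp]
    have h := hcomm x e₀ he₀
    rw [show ⁅x, e₀⁆ = σ e₀ * e₀⁻¹ from rfl] at h
    have h2 : e₀⁻¹ * (σ e₀ * e₀⁻¹) * e₀ = σ e₀ * e₀⁻¹ := by
      rw [← (Zc_commute h e₀⁻¹).eq]; group
    rw [show e₀⁻¹ * σ e₀ = e₀⁻¹ * (σ e₀ * e₀⁻¹) * e₀ by group, h2]
    exact h
  have hz1 : z ≠ 1 := by
    rw [hwp]
    intro h
    exact he₀z (S.inf_centralizer hx he₀ (eq_mul_inv_iff_mul_eq.mp (inv_mul_eq_one.mp h)).symm)
  have hσz : σ z = z := by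
    show x * z * x⁻¹ = z
    rw [← (Zc_commute hzZ x).eq, mul_inv_cancel_right]
  set v := w⁻¹ * σ w with hv
  have hvE : v ∈ E := by
    refine S.omega (mul_mem (inv_mem hwC) (hσC hwC)) ?_
    rw [hv, hmulpow (inv_mem hwC) (hσC hwC) (by rw [inv_pow]; exact inv_mem (Zc_le hzZ)), inv_pow,
      ← map_pow, ← hz, hσz, inv_mul_cancel]
  set u := v⁻¹ * σ v with hu
  have huZ : u ∈ Zc E := by
    have h := hcomm x v hvE
    rw [show ⁅x, v⁆ = σ v * v⁻¹ from rfl] at h
    have h2 : v⁻¹ * (σ v * v⁻¹) * v = σ v * v⁻¹ := by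
      rw [← (Zc_commute h v⁻¹).eq]; group
    rw [hu, show v⁻¹ * σ v = v⁻¹ * (σ v * v⁻¹) * v by group, h2]
    exact h
  have hσu : σ u = u := by
    show x * u * x⁻¹ = u
    rw [← (Zc_commute huZ x).eq, mul_inv_cancel_right]
  have hiter := conj_iter (σ := σ) (f := f) (w := w) (v := v) (u := u) (by simp [hw]) (by simp [hv])
    (by simp [hu]) hσu (S.commute_E hwC hvE).symm (Zc_commute huZ w).symm (Zc_commute huZ v).symm p
  rw [hσ, conj_pow_apply] at hiter
  have hcx : x ^ p * f * (x ^ p)⁻¹ = f := by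
    rw [← (mem_UG_commute S hfC (hsq hfp) hxp).eq, mul_inv_cancel_right]
  obtain ⟨k, hk⟩ := hp.out.dvd_choose_self (k := 2) (by norm_num) (lt_of_le_of_ne hp.out.two_le (Ne.symm S.odd))
  rw [hcx, ← hz, hk, pow_mul, S.elem.2 v hvE, one_pow, mul_one, mul_assoc, left_eq_mul] at hiter
  have hp3 : p = 3 := by
    by_contra hp3
    have h3 : 3 < p := lt_of_le_of_ne (lt_of_le_of_ne hp.out.two_le (Ne.symm S.odd)) (Ne.symm hp3)
    obtain ⟨l, hl⟩ := hp.out.dvd_choose_self (k := 3) (by norm_num) h3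
    rw [hl, pow_mul, S.elem.2 u huZ.1, one_pow, mul_one] at hiter
    exact hz1 hiter
  refine ⟨hp3, S.card_centralizer hx fun d hd hxd => ?_⟩
  by_contra hdz
  have hdE : d ∉ E := fun h => hdz (S.inf_centralizer hx h hxd)
  have hex : ∃ j : ℕ, d ^ p ^ j ∈ E := by
    obtain ⟨j, hj⟩ := IsPGroup.iff_orderOf.mp S.isP d
    exact ⟨j, by rw [← hj, pow_orderOf_eq_one]; exact one_mem E⟩
  classical
  set j₀ := Nat.find hex
  have hj₀ : d ^ p ^ j₀ ∈ E := Nat.find_spec hex
  have hj1 : j₀ ≠ 0 := fun h => hdE (by simpa [h] using hj₀)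
  set d' := d ^ p ^ (j₀ - 1) with hd'
  have hd'E : d' ∉ E := Nat.find_min hex (by omega)
  have hd'C : d' ∈ C := pow_mem hd _
  have hd'p : d' ^ p ∈ E := by
    rw [hd', ← pow_mul, ← pow_succ, Nat.sub_add_cancel (Nat.one_le_iff_ne_zero.mpr hj1)]; exact hj₀
  have hxd' : Commute x d' := hxd.pow_right _
  obtain ⟨i, hi⟩ := exists_zpow_eq hZ hzZ hz1 (S.inf_centralizer hx hd'p (hxd'.pow_right p))
  set e := (w ^ i)⁻¹ * d' with he
  have heE : e ∈ E := by
    refine S.omega (mul_mem (inv_mem (pow_mem hwC i)) hd'C) ?_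
    have hwi : ((w ^ i)⁻¹) ^ p = (z ^ i)⁻¹ := by
      rw [hz, inv_pow, ← pow_mul, mul_comm, pow_mul]
    rw [he, hmulpow (inv_mem (pow_mem hwC i)) hd'C (by
      rw [hwi]; exact inv_mem (pow_mem (Zc_le hzZ) i)), hwi, ← hi, inv_mul_cancel]
  have hσd : σ d' = d' := by
    show x * d' * x⁻¹ = d'
    rw [hxd'.eq, mul_inv_cancel_right]
  have hvi : v ^ i ∈ Zc E := by
    have h : σ (w ^ i * e) = w ^ i * e := by rw [he, mul_inv_cancel_left, hσd]
    rw [map_mul, map_pow, show σ w = w * v by simp [hv], (S.commute_E hwC hvE).symm.mul_pow,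
      mul_assoc, mul_right_inj] at h
    have h2 := inv_mem (hcomm x e heE)
    rwa [show ⁅x, e⁆ = σ e * e⁻¹ from rfl,
      show (σ e * e⁻¹)⁻¹ = v ^ i by rw [eq_mul_inv_of_mul_eq h]; group] at h2
  have hvZ : v ∉ Zc E := by
    intro hvz
    have hu1 : u = 1 := by
      show v⁻¹ * (x * v * x⁻¹) = 1
      rw [← (Zc_commute hvz x).eq, mul_inv_cancel_right, inv_mul_cancel]
    rw [hu1, one_pow, mul_one] at hiter
    exact hz1 hiter
  have hpi : p ∣ i := by
    by_contra hpi
    obtain ⟨i', -, hi'⟩ := Nat.exists_mul_mod_eq_one_of_coprime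
      ((hp.out.coprime_iff_not_dvd.mpr hpi).symm) hp.out.one_lt
    refine hvZ ?_
    have hval : v = (v ^ i) ^ i' := by
      rw [← pow_mul, ← Nat.mod_add_div (i * i') p, hi', pow_add, pow_one, pow_mul, S.elem.2 v hvE,
        one_pow, mul_one]
    rw [hval]; exact pow_mem hvi i'
  obtain ⟨l, rfl⟩ := hpi
  rw [pow_mul, Zc_pow S hzZ, one_pow] at hi
  exact hd'E (S.omega hd'C hi)

/-- The data when `C/E` is cyclic of order `p ^ m`. -/
structure Cyc (p : ℕ) (E : Subgroup G) (g : G) (m : ℕ) : Prop where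
  mem : g ∈ centralizer (E : Set G)
  gen : ∀ c ∈ centralizer (E : Set G), ∃ i : ℕ, ∃ e ∈ E, c = g ^ i * e
  order : ∀ i : ℕ, g ^ i ∈ E ↔ p ^ m ∣ i

variable {g : G} {m : ℕ}

theorem Cyc.comm (S : Setup p G E) (hg : Cyc p E g m) {a b : G}
    (ha : a ∈ centralizer (E : Set G)) (hb : b ∈ centralizer (E : Set G)) : Commute a b := by
  obtain ⟨i, e, he, rfl⟩ := hg.gen a ha
  obtain ⟨j, e', he', rfl⟩ := hg.gen b hb
  have hge : ∀ {e}, e ∈ E → Commute g e := fun he => (S.commute_E hg.mem he).symm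
  refine (Commute.mul_left ?_ ?_).mul_right (Commute.mul_left ?_ ?_)
  · exact (Commute.refl g).pow_pow i j
  · exact ((hge he).pow_left j).symm
  · exact (hge he').pow_left i
  · exact congrArg Subtype.val (S.elem.1.is_comm.comm ⟨e, he⟩ ⟨e', he'⟩)

theorem Cyc.UG_le (S : Setup p G E) (hg : Cyc p E g m) {d : G} (hd : d ∈ UG p E) :
    ∃ i : ℕ, d = g ^ (p * i) := by
  obtain ⟨d, hd, rfl⟩ := hd
  induction hd using closure_induction with
  | mem y hy =>
    obtain ⟨⟨a, ha⟩, rfl⟩ := hy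
    obtain ⟨i, e, he, rfl⟩ := hg.gen a ha
    refine ⟨i, ?_⟩
    show (g ^ i * e) ^ p = g ^ (p * i)
    rw [(hg.comm S (pow_mem hg.mem i) (S.le_C he)).mul_pow, S.elem.2 e he, mul_one, ← pow_mul, mul_comm]
  | one => exact ⟨0, by simp⟩
  | mul a b _ _ ha hb =>
    obtain ⟨i, hi⟩ := ha
    obtain ⟨j, hj⟩ := hb
    refine ⟨i + j, ?_⟩
    rw [map_mul, hi, hj, ← pow_add, mul_add]
  | inv a _ ha =>
    obtain ⟨i, hi⟩ := ha
    obtain ⟨o, ho⟩ := IsPGroup.iff_orderOf.mp S.isP g
    refine ⟨i * (p ^ o - 1), ?_⟩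
    rw [map_inv, hi, inv_eq_iff_mul_eq_one, ← pow_add, ← Nat.mul_add,
      show i + i * (p ^ o - 1) = i * p ^ o by
        conv_lhs => arg 1; rw [← mul_one i]
        rw [← Nat.mul_add, Nat.add_sub_cancel' (Nat.one_le_pow o p hp.out.pos)],
      ← ho, ← mul_assoc, mul_comm, pow_mul, pow_orderOf_eq_one, one_pow]

theorem Cyc.pow_ne_one (S : Setup p G E) (hg : Cyc p E g m) (hm : m ≠ 0) : g ^ p ^ m ≠ 1 := by
  intro h
  have h1 : g ^ p ^ (m - 1) ∈ E := S.omega (pow_mem hg.mem _) (by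
    rw [← pow_mul, ← pow_succ, Nat.sub_add_cancel (Nat.one_le_iff_ne_zero.mpr hm)]; exact h)
  have := (Nat.pow_dvd_pow_iff_le_right hp.out.one_lt).mp ((hg.order _).mp h1)
  omega

theorem Cyc.pow_succ_eq (S : Setup p G E) (hg : Cyc p E g m) : g ^ p ^ (m + 1) = 1 := by
  rw [pow_succ, pow_mul, S.elem.2 _ ((hg.order _).mpr dvd_rfl)]

theorem Cyc.orderOf_eq (S : Setup p G E) (hg : Cyc p E g m) (hm : m ≠ 0) :
    orderOf g = p ^ (m + 1) :=
  orderOf_eq_prime_pow (hg.pow_ne_one S hm) (hg.pow_succ_eq S)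

/-- An element `x ∉ C` with `x ^ p ∈ C^p` moves `g` inside `g E`, and `g ^ (p ^ m)` is central. -/
theorem Cyc.shift (S : Setup p G E) (hg : Cyc p E g m) (hm : m ≠ 0) {x : G}
    (hx : x ∉ centralizer (E : Set G)) (_hxp : x ^ p ∈ UG p E) :
    g⁻¹ * (x * g * x⁻¹) ∈ E ∧ g ^ p ^ m ∈ Zc E := by
  haveI := S.normal
  have hC : centralizer (E : Set G) ≠ ⊤ := fun h => hx (h ▸ mem_top x)
  obtain ⟨hZ, hcomm⟩ := S.Zc_data hC
  set C := centralizer (E : Set G) with hCdef
  set σ := MulAut.conj x with hσ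
  obtain ⟨r, e, he, hr⟩ := hg.gen (σ g) ((inferInstance : C.Normal).conj_mem g hg.mem x)
  set z := g ^ p ^ m with hz
  have hzE : z ∈ E := (hg.order _).mpr dvd_rfl
  have hz1 : z ≠ 1 := hg.pow_ne_one S hm
  have hσz : σ z = z ^ r := by
    rw [hz, map_pow, hr, (hg.comm S (pow_mem hg.mem r) (S.le_C he)).mul_pow,
      show e ^ p ^ m = 1 by
        rw [show p ^ m = p * p ^ (m - 1) by rw [← pow_succ', Nat.sub_add_cancel (Nat.one_le_iff_ne_zero.mpr hm)],
          pow_mul, S.elem.2 e he, one_pow],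
      mul_one, ← pow_mul, ← pow_mul, mul_comm]
  have hop : orderOf z = p := orderOf_eq_prime (S.elem.2 z hzE) hz1
  -- `⁅x, z⁆` is a power of `z` in the centre, so trivial
  have hzZ : z ∈ Zc E := by
    refine S.inf_centralizer hx hzE ?_
    by_contra hne
    have hcz := hcomm x z hzE
    have hne' : ⁅x, z⁆ ≠ 1 := fun h => hne (commutatorElement_eq_one_iff_commute.mp h)
    have hmem : ⁅x, z⁆ ∈ zpowers z := by
      rw [show ⁅x, z⁆ = σ z * z⁻¹ from rfl, hσz]
      exact mul_mem (pow_mem (mem_zpowers z) r) (inv_mem (mem_zpowers z))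
    have hle : zpowers ⁅x, z⁆ = zpowers z := eq_of_le_of_card_ge (zpowers_le.mpr hmem) (by
      rw [Nat.card_zpowers, Nat.card_zpowers, hop, orderOf_eq_prime (Zc_pow S hcz) hne'])
    exact hne (Zc_commute (zpowers_le.mpr hcz (hle.ge (mem_zpowers z))) x).symm
  refine ⟨?_, hzZ⟩
  have hrmod : r % p = 1 := by
    have h1 : z ^ r = z ^ 1 := by
      rw [← hσz, pow_one]
      show x * z * x⁻¹ = z
      rw [← (Zc_commute hzZ x).eq, mul_inv_cancel_right]
    rw [pow_eq_pow_iff_modEq, hop] at h1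
    rw [h1, Nat.mod_eq_of_lt hp.out.one_lt]
  set t := e⁻¹ * σ e with ht
  have htZ : t ∈ Zc E := by
    have h := hcomm x e he
    rw [show ⁅x, e⁆ = σ e * e⁻¹ from rfl] at h
    have h2 : e⁻¹ * (σ e * e⁻¹) * e = σ e * e⁻¹ := by rw [← (Zc_commute h e⁻¹).eq]; group
    rw [ht, show e⁻¹ * σ e = e⁻¹ * (σ e * e⁻¹) * e by group, h2]
    exact h
  have her : ∀ i : ℕ, e ^ r ^ i = e := by
    intro i
    rw [← Nat.mod_add_div (r ^ i) p, Nat.pow_mod, hrmod, one_pow, Nat.mod_eq_of_lt hp.out.one_lt,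
      pow_add, pow_one, pow_mul, S.elem.2 e he, one_pow, mul_one]
  have hte : Commute e t := (Zc_commute htZ e).symm
  have hiter : ∀ i : ℕ, (σ ^ i) g = g ^ r ^ i * e ^ i * t ^ i.choose 2 := by
    intro i
    induction i with
    | zero => simp
    | succ i ih =>
      rw [pow_succ', MulAut.mul_apply, ih, map_mul, map_mul, map_pow, map_pow, map_pow, hr,
        (hg.comm S (pow_mem hg.mem r) (S.le_C he)).mul_pow, her i,
        show σ e = e * t by simp [ht], show σ t = t from (by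
          show x * t * x⁻¹ = t
          rw [← (Zc_commute htZ x).eq, mul_inv_cancel_right]),
        hte.mul_pow, Nat.choose_succ_succ' i 1, Nat.choose_one_right, pow_add, ← pow_mul,
        ← pow_succ' r, pow_succ' e]
      simp only [mul_assoc, pow_add, pow_one]
  have hp' := hiter p
  obtain ⟨k, hk⟩ := hp.out.dvd_choose_self (k := 2) (by norm_num) (lt_of_le_of_ne hp.out.two_le (Ne.symm S.odd))
  rw [hk, pow_mul, Zc_pow S htZ, one_pow, mul_one, S.elem.2 e he, mul_one, hσ, conj_pow_apply,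
    (hg.comm S (S.pow_mem_C x) hg.mem).eq, mul_inv_cancel_right] at hp'
  have hmod : 1 ≡ r ^ p [MOD p ^ (m + 1)] := by
    have h : g ^ 1 = g ^ r ^ p := by rw [pow_one]; exact hp'
    rwa [pow_eq_pow_iff_modEq, hg.orderOf_eq S hm] at h
  have hr1 : 1 ≤ r := Nat.one_le_iff_ne_zero.mpr fun h => by rw [h] at hrmod; simp at hrmod
  have hdiv := (Nat.modEq_iff_dvd' (Nat.one_le_pow _ _ hr1)).mp hmod
  have hgs : r ^ p - 1 = (r - 1) * Metacyclic.gsum r p := by
    have := Metacyclic.pow_eq_one_add_mul_gsum (r - 1) p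
    rw [show 1 + (r - 1) = r by omega] at this
    omega
  have hcast : (r : ZMod p) = 1 := by
    rw [← Nat.mod_add_div r p, hrmod]; simp
  obtain ⟨u, hu⟩ : p ∣ Metacyclic.gsum r p := Metacyclic.prime_dvd_gsum hcast
  have hpu : ¬ p ∣ u := by
    intro h
    have h2 : p ^ 2 ∣ Metacyclic.gsum r p := by rw [hu, sq]; exact Nat.mul_dvd_mul_left p h
    rw [Metacyclic.pow_dvd_gsum_iff S.odd hcast] at h2
    have h3 := Nat.le_of_dvd hp.out.pos h2
    have := hp.out.two_le
    rw [sq] at h3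
    nlinarith
  rw [hgs, hu, pow_succ, ← mul_assoc, mul_right_comm] at hdiv
  have hd2 : p ^ m ∣ (r - 1) * u := Nat.dvd_of_mul_dvd_mul_right hp.out.pos hdiv
  have hd3 : p ^ m ∣ r - 1 :=
    (Nat.Coprime.pow_left m (hp.out.coprime_iff_not_dvd.mpr hpu)).dvd_of_dvd_mul_right hd2
  show g⁻¹ * σ g ∈ E
  rw [hr, ← mul_assoc, ← Nat.sub_add_cancel hr1, pow_succ', ← mul_assoc, inv_mul_cancel, one_mul]
  exact mul_mem ((hg.order _).mpr hd3) he

omit hp in
theorem shift_inv_mem (x : G) (U : Subgroup G) (h : x ^ p ∈ U) : x⁻¹ ^ p ∈ U := by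
  rw [inv_pow]; exact inv_mem h

/-- The classification when `C/E` is cyclic and some `x ∉ C` has order `p`. -/
theorem classify (S : Setup p G E) (hg : Cyc p E g m) (hm : m ≠ 0) {n : ℕ} (hn : n = m + 3)
    {x : G} (hx : x ∉ centralizer (E : Set G)) (hxp : x ^ p = 1) :
    (3 ≤ n ∧ ∃ x y z : G, closure ({x, y, z} : Set G) = ⊤ ∧ x ^ p = 1 ∧ y ^ p = 1 ∧
        z ^ p ^ (n - 2) = 1 ∧ x * z = z * x ∧ y * z = z * y ∧
        x⁻¹ * y * x = y * z ^ p ^ (n - 3)) ∨
    (4 ≤ n ∧ ∃ (s : ℕ) (x y z : G), (s = 1 ∨ ¬ IsSquare (s : ZMod p)) ∧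
        closure ({x, y, z} : Set G) = ⊤ ∧
        x ^ p = 1 ∧ y ^ p = 1 ∧ z ^ p ^ (n - 2) = 1 ∧ y * z = z * y ∧
        x⁻¹ * y * x = y * z ^ (s * p ^ (n - 3)) ∧ x⁻¹ * z * x = y * z) := by
  haveI := S.normal
  subst hn
  rw [show m + 3 - 2 = m + 1 by omega, show m + 3 - 3 = m by omega]
  set C := centralizer (E : Set G) with hCdef
  have hC : C ≠ ⊤ := fun h => hx (h ▸ mem_top x)
  obtain ⟨hZ, hcomm⟩ := S.Zc_data hC
  have hxi : x⁻¹ ∉ C := fun h => hx (inv_inv x ▸ inv_mem h)
  obtain ⟨hwE, hzZ⟩ := hg.shift S hm hxi (by rw [inv_pow, hxp, inv_one]; exact one_mem _)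
  rw [inv_inv] at hwE
  set z0 := g ^ p ^ m with hz0
  have hz01 : z0 ≠ 1 := hg.pow_ne_one S hm
  set τ := MulAut.conj x⁻¹ with hτ
  have hτe : ∀ a, τ a = x⁻¹ * a * x := fun a => by simp [hτ]
  have hτZ : ∀ a ∈ Zc E, τ a = a := fun a ha => by
    rw [hτe, mul_assoc, (Zc_commute ha x).eq, inv_mul_cancel_left]
  -- the action on `E`
  have hact : ∀ y ∈ E, ∃ k : ℕ, τ y = y * z0 ^ k := by
    intro y hy
    obtain ⟨k, hk⟩ := exists_zpow_eq hZ hzZ hz01 (hcomm x⁻¹ y hy)
    refine ⟨k, ?_⟩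
    rw [← hk, commutatorElement_def, inv_inv, hτe]
    have hc : Commute y (x⁻¹ * y * x * y⁻¹) := by
      have := Zc_commute (hcomm x⁻¹ y hy) y
      rw [commutatorElement_def, inv_inv] at this
      exact this.symm
    rw [hc.eq, inv_mul_cancel_right]
  have hgen : ∀ x' y' z' : G, x' ∉ C → y' ∈ E → y' ∉ Zc E → (∀ i : ℕ, ∀ e ∈ E,
      g ^ i * e ∈ closure ({x', y', z'} : Set G) ⊔ E) → z0 ∈ closure ({x', y', z'} : Set G) →
      closure ({x', y', z'} : Set G) = ⊤ := by
    intro x' y' z' hx' hy' hy'Z hgz hz0'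
    set K := closure ({x', y', z'} : Set G)
    have hEK : E ≤ K := by
      have hlt : Zc E < Zc E ⊔ zpowers y' := lt_of_le_of_ne le_sup_left fun h =>
        hy'Z (h.ge (mem_sup_right (mem_zpowers y')))
      obtain ⟨k, hk⟩ := IsPGroup.iff_card.mp (S.isP.to_subgroup (Zc E ⊔ zpowers y'))
      have h1 : Nat.card (Zc E) < Nat.card ↥(Zc E ⊔ zpowers y') :=
        lt_of_le_of_ne (card_le_of_le hlt.le) fun e => hlt.ne (eq_of_le_of_card_ge hlt.le e.ge)
      rw [hZ, hk] at h1
      have heq : Zc E ⊔ zpowers y' = E := eq_of_le_of_card_ge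
        (sup_le Zc_le (zpowers_le.mpr hy')) (by
          rw [S.card, hk]
          refine Nat.pow_le_pow_right hp.out.pos ?_
          by_contra hk2
          exact absurd (h1.trans_le (Nat.pow_le_pow_right hp.out.pos (show k ≤ 1 by omega))) (by simp))
      rw [← heq]
      refine sup_le (fun a ha => ?_) (zpowers_le.mpr (subset_closure (by simp)))
      obtain ⟨i, rfl⟩ := exists_zpow_eq hZ hzZ hz01 ha
      exact pow_mem hz0' i
    refine top_le_iff.mp ((S.sup_zpowers hx').ge.trans (sup_le ?_ (zpowers_le.mpr (subset_closure (by simp)))))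
    intro c hc
    obtain ⟨i, e, he, rfl⟩ := hg.gen c hc
    have := hgz i e he
    rwa [sup_eq_left.mpr hEK] at this
  by_cases hwZ : g⁻¹ * (x⁻¹ * g * x) ∈ Zc E
  · -- `x` centralises a generator of `C` modulo `E`
    left
    obtain ⟨e₁, he₁, he₁Z⟩ : ∃ e ∈ E, e ∉ Zc E := by
      refine SetLike.exists_of_lt (lt_of_le_of_ne inf_le_left fun h => ?_)
      have h2 : p ^ 1 = p ^ 2 := by
        rw [pow_one, ← S.card]; exact hZ.symm.trans (congrArg (fun X : Subgroup G => Nat.card X) h)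
      have := Nat.pow_right_injective hp.out.two_le h2
      omega
    obtain ⟨b, hb⟩ := hact e₁ he₁
    have hbp : ¬ p ∣ b := by
      rintro ⟨l, rfl⟩
      refine he₁Z (S.inf_centralizer hxi he₁ ?_)
      rw [pow_mul, Zc_pow S hzZ, one_pow, mul_one, hτe, mul_assoc, inv_mul_eq_iff_eq_mul] at hb
      exact (show Commute x e₁ from hb.symm).inv_left
    obtain ⟨b', -, hb'⟩ := Nat.exists_mul_mod_eq_one_of_coprime
      ((hp.out.coprime_iff_not_dvd.mpr hbp).symm) hp.out.one_lt
    set y := e₁ ^ b' with hy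
    have hyE : y ∈ E := pow_mem he₁ b'
    have hτy : τ y = y * z0 := by
      rw [hy, map_pow, hb, ((Zc_commute hzZ e₁).pow_left b).symm.mul_pow, ← pow_mul,
        ← Nat.mod_add_div (b * b') p, hb', pow_add, pow_one, pow_mul, Zc_pow S hzZ, one_pow, mul_one]
    have hyZ : y ∉ Zc E := fun h => hz01 (by
      have := hτy; rw [hτZ y h, left_eq_mul] at this; exact this)
    obtain ⟨a, ha⟩ := exists_zpow_eq hZ hzZ hz01 hwZ
    set z := g * (y ^ a)⁻¹ with hz
    have hzpow : z ^ p ^ m = z0 := by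
      rw [hz, (hg.comm S hg.mem (inv_mem (pow_mem (S.le_C hyE) a))).mul_pow, inv_pow,
        show (y ^ a) ^ p ^ m = 1 by
          rw [show p ^ m = p * p ^ (m - 1) by rw [← pow_succ', Nat.sub_add_cancel (Nat.one_le_iff_ne_zero.mpr hm)],
            pow_mul, S.elem.2 _ (pow_mem hyE a), one_pow], inv_one, mul_one]
    have hτz : τ z = z := by
      rw [hz, map_mul, map_inv, map_pow, hτy, (Zc_commute hzZ y).symm.mul_pow,
        show τ g = g * z0 ^ a by rw [← ha, hτe, mul_inv_cancel_left], mul_inv_rev, ← mul_assoc,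
        mul_inv_cancel_right]
    refine ⟨by omega, x, y, z, ?_, hxp, S.elem.2 y hyE, ?_, ?_, ?_, ?_⟩
    · refine hgen x y z hx hyE hyZ (fun i e he => ?_) (hzpow ▸ pow_mem (subset_closure (by simp)) _)
      refine mul_mem (pow_mem ?_ i) (mem_sup_right he)
      have := mul_mem (mem_sup_left (T := E) (subset_closure (show z ∈ ({x, y, z} : Set G) by simp)))
        (mem_sup_right (pow_mem hyE a))
      rwa [hz, inv_mul_cancel_right] at this
    · rw [pow_succ, pow_mul, hzpow, Zc_pow S hzZ]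
    · have := hτz; rw [hτe, mul_assoc, inv_mul_eq_iff_eq_mul] at this; exact this.symm
    · exact (hg.comm S (S.le_C hyE) (mul_mem hg.mem (inv_mem (pow_mem (S.le_C hyE) a)))).eq
    · rw [← hτe, hτy, hzpow]
  · right
    set y := g⁻¹ * (x⁻¹ * g * x) with hy
    have hτg : τ g = g * y := by rw [hτe, hy, mul_inv_cancel_left]
    obtain ⟨a, ha⟩ := hact y hwE
    have hap : ¬ p ∣ a := by
      rintro ⟨l, rfl⟩
      refine hwZ (S.inf_centralizer hxi hwE ?_)
      rw [pow_mul, Zc_pow S hzZ, one_pow, mul_one, hτe, mul_assoc, inv_mul_eq_iff_eq_mul] at ha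
      exact (show Commute x y from ha.symm).inv_left
    have hgy : Commute g y := (S.commute_E hg.mem hwE).symm
    refine ⟨by omega, ?_⟩
    by_cases hsq : IsSquare (a : ZMod p)
    · obtain ⟨q, hq⟩ := hsq
      have ha0 : (a : ZMod p) ≠ 0 := by rwa [Ne, ZMod.natCast_eq_zero_iff] 
      have hq0 : q ≠ 0 := fun h => ha0 (by rw [hq, h, mul_zero])
      set i := q⁻¹.val with hi
      have hii : ((a * i * i : ℕ) : ZMod p) = 1 := by
        push_cast
        rw [hi, ZMod.natCast_rightInverse q⁻¹, hq]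
        field_simp
      have hi0 : ¬ p ∣ i := fun h => by
        rw [Nat.cast_mul, (ZMod.natCast_eq_zero_iff i p).mpr h, mul_zero] at hii
        exact zero_ne_one hii
      have hτi : ∀ (j : ℕ) (b : G), (τ ^ j) b = (x ^ j)⁻¹ * b * x ^ j := fun j b => by
        rw [hτ, conj_pow_apply, inv_pow, inv_inv]
      have hiter := conj_iter (σ := τ) hτg ha (u := 1) (by rw [mul_one]; exact hτZ _ (pow_mem hzZ a))
        (map_one τ) ((Zc_commute (pow_mem hzZ a) y).symm) (Commute.one_right _) (Commute.one_right _) i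
      rw [one_pow, mul_one] at hiter
      set y' := y ^ i * (z0 ^ a) ^ i.choose 2 with hy'
      have hy'E : y' ∈ E := mul_mem (pow_mem hwE i) (pow_mem (pow_mem (Zc_le hzZ) a) _)
      have hτy' : (τ ^ i) y' = y' * z0 := by
        have hfix : (τ ^ i) z0 = z0 := by
          rw [hτi, mul_assoc, ((Zc_commute hzZ x).pow_right i).eq, inv_mul_cancel_left]
        have hyi : (τ ^ i) y = y * (z0 ^ a) ^ i := by
          have := conj_iter (σ := τ) (v := (1 : G)) (u := 1) ha
            (by rw [mul_one]; exact hτZ _ (pow_mem hzZ a)) (by simp) (map_one τ)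
            (Commute.one_right _) (Commute.one_right _) (Commute.one_right _) i
          simpa using this
        rw [hy', map_mul, map_pow, map_pow, map_pow, hfix, hyi,
          ((Zc_commute (pow_mem (pow_mem hzZ a) i) y)).symm.mul_pow, mul_assoc, mul_assoc]
        congr 1
        rw [← pow_mul (z0 ^ a) i i, ← pow_mul z0, ← Nat.mod_add_div (a * (i * i)) p]
        have hmod : a * (i * i) % p = 1 := by
          have := congrArg ZMod.val hii
          rw [ZMod.val_natCast, ZMod.val_one, mul_assoc] at this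
          exact this
        rw [hmod, pow_add, pow_one, pow_mul, Zc_pow S hzZ, one_pow, mul_one]
        exact (Zc_commute hzZ _).eq
      have hy'Z : y' ∉ Zc E := fun h => hz01 (by
        have h2 : (τ ^ i) y' = y' := by
          rw [hτi, mul_assoc, ((Zc_commute h x).pow_right i).eq, inv_mul_cancel_left]
        rw [hτy', mul_eq_left] at h2; exact h2)
      have hx'C : x ^ i ∉ C := by
        intro h
        obtain ⟨i', -, hi'⟩ := Nat.exists_mul_mod_eq_one_of_coprime
          ((hp.out.coprime_iff_not_dvd.mpr hi0).symm) hp.out.one_lt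
        apply hx
        have : x = (x ^ i) ^ i' := by
          rw [← pow_mul, ← Nat.mod_add_div (i * i') p, hi', pow_add, pow_one, pow_mul, hxp, one_pow,
            mul_one]
        rw [this]; exact pow_mem h i'
      refine ⟨1, x ^ i, y', g, Or.inl rfl, ?_, ?_, S.elem.2 y' hy'E, hg.pow_succ_eq S,
        (S.commute_E hg.mem hy'E).eq, ?_, ?_⟩
      · exact hgen _ _ _ hx'C hy'E hy'Z
          (fun j e he => mul_mem (pow_mem (mem_sup_left (subset_closure (by simp))) j) (mem_sup_right he))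
          (pow_mem (subset_closure (by simp)) _)
      · rw [← pow_mul, mul_comm, pow_mul, hxp, one_pow]
      · rw [one_mul, ← hz0, ← hτi, hτy']
      · rw [← hτi, hiter, hy', mul_assoc]
        exact (S.commute_E hg.mem hy'E).eq.symm
    · refine ⟨a, x, y, g, Or.inr hsq, ?_, hxp, S.elem.2 y hwE, hg.pow_succ_eq S, hgy.eq.symm, ?_, ?_⟩
      · exact hgen _ _ _ hx hwE hwZ
          (fun j e he => mul_mem (pow_mem (mem_sup_left (subset_closure (by simp))) j) (mem_sup_right he))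
          (pow_mem (subset_closure (by simp)) _)
      · rw [← hτe, ha, mul_comm a, pow_mul]
      · rw [← hτe, hτg, hgy.eq]

theorem mul3 {G : Type*} [Group G] {K w t : G} (hKw : Commute K w) (hKt : Commute K t)
    (hwt : Commute w t) (i a b c d : ℕ) :
    K ^ i * w ^ a * t ^ b * K * w ^ c * t ^ d = K ^ (i + 1) * w ^ (a + c) * t ^ (b + d) := by
  calc K ^ i * w ^ a * t ^ b * K * w ^ c * t ^ d
      = K ^ i * (w ^ a * t ^ b * K) * w ^ c * t ^ d := by group
    _ = K ^ i * (K * (w ^ a * t ^ b)) * w ^ c * t ^ d := by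
        rw [((hKw.pow_right a).mul_right (hKt.pow_right b)).eq]
    _ = K ^ i * K * w ^ a * (t ^ b * w ^ c) * t ^ d := by group
    _ = K ^ i * K * w ^ a * (w ^ c * t ^ b) * t ^ d := by rw [(hwt.pow_pow c b).eq]
    _ = _ := by rw [pow_succ, pow_add, pow_add]; group

/-- From `x ∉ C` with `x ^ p ∈ C^p` get an element of order `p`, or `p = 3` and maximal class. -/
theorem exists_order_p (S : Setup p G E) (hg : Cyc p E g m) (hm : m ≠ 0) {x : G}
    (hx : x ∉ centralizer (E : Set G)) (hxp : x ^ p ∈ UG p E) :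
    (p = 3 ∧ Nat.card (centralizer ({x} : Set G)) = p ^ 2) ∨
      ∃ x', x' ∉ centralizer (E : Set G) ∧ x' ^ p = 1 := by
  haveI := S.normal
  obtain ⟨hwE, hzZ⟩ := hg.shift S hm hx hxp
  have hC : centralizer (E : Set G) ≠ ⊤ := fun h => hx (h ▸ mem_top x)
  obtain ⟨hZ, hcomm⟩ := S.Zc_data hC
  set C := centralizer (E : Set G) with hCdef
  set σ := MulAut.conj x with hσ
  set z0 := g ^ p ^ m with hz0
  have hz01 : z0 ≠ 1 := hg.pow_ne_one S hm
  set w := g⁻¹ * σ g with hw
  have hσg : σ g = g * w := by rw [hw, mul_inv_cancel_left]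
  set t := w⁻¹ * σ w with ht
  have htZ : t ∈ Zc E := by
    have h := hcomm x w hwE
    rw [show ⁅x, w⁆ = σ w * w⁻¹ from rfl] at h
    have h2 : w⁻¹ * (σ w * w⁻¹) * w = σ w * w⁻¹ := by rw [← (Zc_commute h w⁻¹).eq]; group
    rw [ht, show w⁻¹ * σ w = w⁻¹ * (σ w * w⁻¹) * w by group, h2]
    exact h
  have hσt : σ t = t := by
    show x * t * x⁻¹ = t
    rw [← (Zc_commute htZ x).eq, mul_inv_cancel_right]
  obtain ⟨l, hl⟩ := exists_zpow_eq hZ hzZ hz01 htZ
  obtain ⟨j, hj⟩ := hg.UG_le S hxp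
  have hgw : Commute g w := (S.commute_E hg.mem hwE).symm
  have hgt : Commute g t := (Zc_commute htZ g).symm
  have hwt : Commute w t := (Zc_commute htZ w).symm
  -- `(g ^ k * x) ^ p`
  have hpw : ∀ k : ℕ, (g ^ k * x) ^ p = g ^ (k * p) * t ^ (k * p.choose 3) * x ^ p := by
    intro k
    have hiter := conj_iter (σ := σ) (f := g ^ k) (w := w ^ k) (v := t ^ k) (u := 1)
      (by rw [map_pow, hσg, hgw.mul_pow])
      (by rw [map_pow, show σ w = w * t by rw [ht, mul_inv_cancel_left], hwt.mul_pow])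
      (by rw [map_pow, hσt, mul_one]) (map_one σ) (hwt.pow_pow k k) (Commute.one_right _)
      (Commute.one_right _)
    have hstep : ∀ i : ℕ, (g ^ k * x) ^ i =
        (g ^ k) ^ i * (w ^ k) ^ i.choose 2 * (t ^ k) ^ i.choose 3 * x ^ i := by
      intro i
      induction i with
      | zero => simp
      | succ i ih =>
        have h1 := hiter i
        rw [one_pow, mul_one, hσ, conj_pow_apply, mul_inv_eq_iff_eq_mul] at h1
        rw [pow_succ, ih, ← mul_assoc, mul_assoc _ (x ^ i) (g ^ k), h1, ← mul_assoc,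
          mul_assoc _ (x ^ i) x, ← pow_succ x i,
          ← mul_assoc, ← mul_assoc, mul3 (hgw.pow_pow k k) (hgt.pow_pow k k) (hwt.pow_pow k k),
          Nat.choose_succ_succ' i 2, Nat.choose_succ_succ' i 1, Nat.choose_one_right,
          add_comm (i.choose 2) (i.choose 3), add_comm i (i.choose 2)]
    obtain ⟨c, hc⟩ := hp.out.dvd_choose_self (k := 2) (by norm_num)
      (lt_of_le_of_ne hp.out.two_le (Ne.symm S.odd))
    rw [hstep p, hc, ← pow_mul, ← pow_mul w, ← mul_assoc k, mul_comm k p, mul_assoc p, pow_mul w p,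
      S.elem.2 w hwE, one_pow, mul_one, ← pow_mul]
  have hpos : 0 < p ^ (m + 1) := pow_pos hp.out.pos _
  have hgo : g ^ p ^ (m + 1) = 1 := hg.pow_succ_eq S
  by_cases hp3 : p = 3
  · subst hp3
    have hh : ∀ k, (g ^ k * x) ^ 3 = g ^ ((k * (1 + l * 3 ^ (m - 1)) + j) * 3) := by
      intro k
      rw [hpw k, Nat.choose_self, mul_one, hj, hl, hz0, ← pow_mul, ← pow_mul, ← pow_add, ← pow_add]
      congr 1
      have : 3 ^ m = 3 ^ (m - 1) * 3 := by
        rw [← pow_succ, Nat.sub_add_cancel (Nat.one_le_iff_ne_zero.mpr hm)]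
      rw [this]; ring
    by_cases hunit : (3 : ℕ) ∣ 1 + l * 3 ^ (m - 1)
    · have hm1 : m = 1 := by
        by_contra hm1
        have h3 : 3 ∣ 3 ^ (m - 1) := dvd_pow_self 3 (by omega)
        have := (Nat.dvd_add_left (Dvd.dvd.mul_left h3 l)).mp hunit
        omega
      subst hm1
      refine Or.inl ⟨rfl, S.card_centralizer hx fun d hd hxd => ?_⟩
      obtain ⟨i, e, he, rfl⟩ := hg.gen d hd
      have hwZ : w ∉ Zc E := by
        intro hwZ
        have ht1 : t = 1 := by
          rw [ht, show σ w = w from by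
            show x * w * x⁻¹ = w
            rw [← (Zc_commute hwZ x).eq, mul_inv_cancel_right], inv_mul_cancel]
        rw [ht1] at hl
        have h3 : 3 ∣ l := by
          have := orderOf_dvd_of_pow_eq_one hl.symm
          rwa [orderOf_eq_prime (Zc_pow S hzZ) hz01] at this
        have := (Nat.dvd_add_left (Dvd.dvd.mul_right h3 _)).mp hunit
        omega
      have hσd : σ (g ^ i * e) = g ^ i * e := by
        show x * (g ^ i * e) * x⁻¹ = g ^ i * e
        rw [hxd.eq, mul_inv_cancel_right]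
      rw [map_mul, map_pow, hσg, hgw.mul_pow, mul_assoc, mul_right_inj] at hσd
      have h2 := inv_mem (hcomm x e he)
      rw [show ⁅x, e⁆ = σ e * e⁻¹ from rfl,
        show (σ e * e⁻¹)⁻¹ = w ^ i by rw [eq_mul_inv_of_mul_eq hσd]; group] at h2
      have h3 : 3 ∣ i := by
        by_contra h3
        obtain ⟨i', -, hi'⟩ := Nat.exists_mul_mod_eq_one_of_coprime
          ((Nat.prime_three.coprime_iff_not_dvd.mpr h3).symm) Nat.prime_three.one_lt
        refine hwZ ?_
        have hval : w = (w ^ i) ^ i' := by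
          rw [← pow_mul, ← Nat.mod_add_div (i * i') 3, hi', pow_add, pow_one, pow_mul,
            S.elem.2 w hwE, one_pow, mul_one]
        rw [hval]; exact pow_mem h2 i'
      refine S.inf_centralizer hx (mul_mem ((hg.order i).mpr (by simpa using h3)) he) hxd
    · right
      obtain ⟨b, -, hb⟩ := Nat.exists_mul_mod_eq_one_of_coprime
        ((Nat.Coprime.pow_left (m + 1) (Nat.prime_three.coprime_iff_not_dvd.mpr hunit)).symm)
        (Nat.one_lt_pow (by omega) (by norm_num))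
      refine ⟨g ^ (b * j * (3 ^ (m + 1) - 1)) * x, fun h => hx ?_, ?_⟩
      · simpa using mul_mem (inv_mem (pow_mem hg.mem (b * j * (3 ^ (m + 1) - 1)))) h
      rw [hh]
      have hd : 3 ^ (m + 1) ∣
          b * j * (3 ^ (m + 1) - 1) * (1 + l * 3 ^ (m - 1)) + j := by
        generalize hM : 3 ^ (m + 1) = M at hb hpos ⊢
        generalize hc : 1 + l * 3 ^ (m - 1) = c at hb ⊢
        obtain ⟨M', rfl⟩ := Nat.exists_eq_add_one.mpr hpos
        refine ⟨(c * b / (M' + 1)) * j * M' + j, ?_⟩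
        have := Nat.mod_add_div (c * b) (M' + 1)
        rw [hb] at this
        rw [Nat.add_sub_cancel]
        linear_combination (j * M' : ℕ) * this.symm
      obtain ⟨c, hc⟩ := hd
      rw [hc, mul_assoc, pow_mul, hgo, one_pow]
  · right
    have h3 : 3 < p := lt_of_le_of_ne (lt_of_le_of_ne hp.out.two_le (Ne.symm S.odd)) (Ne.symm hp3)
    obtain ⟨c, hc⟩ := hp.out.dvd_choose_self (k := 3) (by norm_num) h3
    refine ⟨g ^ (j * (p ^ (m + 1) - 1)) * x, fun h => hx ?_, ?_⟩
    · simpa using mul_mem (inv_mem (pow_mem hg.mem (j * (p ^ (m + 1) - 1)))) h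
    rw [hpw, hc, mul_left_comm, pow_mul t p, Zc_pow S htZ, one_pow, mul_one, hj, ← pow_add,
      show j * (p ^ (m + 1) - 1) * p + p * j = p ^ (m + 1) * (j * p) by
        obtain ⟨M, hM⟩ := Nat.exists_eq_add_one.mpr hpos
        rw [hM, Nat.add_sub_cancel]; ring,
      pow_mul, hgo, one_pow]

end Cfsg.Agent.Lib.H66.RankTwo
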