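import Cfsg.Agent.Lib.H66.RankTwo.Criterion
import Cfsg.Agent.Lib.Regular.SmallRank

/-!
`p`-central groups (`p` odd): all elements killed by `p` are central.  Then `|P : P^p| ≤ |Ω₁(P)|`.
-/

set_option autoImplicit false
set_option linter.style.haveILetI false
set_option linter.unusedSectionVars false

namespace Cfsg.Agent.Lib.H66.RankTwo

open Subgroup
open scoped commutatorElement

universe u

/-- All elements killed by `p` are central. -/
def PCen (p : ℕ) (P : Type u) [Group P] : Prop := ∀ x : P, x ^ p = 1 → x ∈ center P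

variable {p : ℕ} {P : Type u} [Group P]

/-- The subgroup of elements killed by `p` of a `p`-central group. -/
def Om (hP : PCen p P) : Subgroup P where
  carrier := {x | x ^ p = 1}
  one_mem' := one_pow p
  mul_mem' := by
    intro a b ha hb
    show (a * b) ^ p = 1
    rw [(show Commute a b from mem_center_iff.mp (hP b hb) a).mul_pow, ha, hb, mul_one]
  inv_mem' := by
    intro a ha
    show a⁻¹ ^ p = 1
    rw [inv_pow, ha, inv_one]

theorem mem_Om {hP : PCen p P} {x : P} : x ∈ Om hP ↔ x ^ p = 1 := Iff.rfl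

theorem Om_le_center (hP : PCen p P) : Om hP ≤ center P := fun x hx => hP x hx

theorem Om_normal (hP : PCen p P) : (Om hP).Normal :=
  ⟨fun x hx g => by rw [mem_Om] at *; rw [conj_pow, hx]; simp⟩

variable [Finite P] [hp : Fact p.Prime]

theorem comm_pow_eq_one (hp2 : p ≠ 2) : ∀ {P : Type u} [Group P] [Finite P], IsPGroup p P →
    PCen p P → ∀ x g : P, (x ^ p) ^ p = 1 → ⁅x, g⁆ ^ p = 1 := by
  intro P _ _
  induction hN : Nat.card P using Nat.strong_induction_on generalizing P with
  | _ N ih =>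
  intro hpP hP x g hx
  subst hN
  set M := zpowers x ⊔ _root_.commutator P with hM
  by_cases hMt : M = ⊤
  · have hz : zpowers x = ⊤ := frattini_nongenerating
      (top_le_iff.mp (hMt.ge.trans (sup_le_sup_left (PFrattini.commutator_le_frattini hpP) _)))
    obtain ⟨k, rfl⟩ : g ∈ zpowers x := hz ▸ mem_top g
    rw [commutatorElement_eq_one_iff_commute.mpr (Commute.self_zpow x k), one_pow]
  have hxM : x ∈ M := mem_sup_left (mem_zpowers x)
  have hyM : g * x * g⁻¹ ∈ M := by
    have : ⁅g, x⁆ * x ∈ M := mul_mem (mem_sup_right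
      (commutator_mem_commutator (mem_top g) (mem_top x))) hxM
    rwa [show ⁅g, x⁆ * x = g * x * g⁻¹ by simp only [commutatorElement_def]; group] at this
  have hlt : Nat.card M < Nat.card P := by
    refine lt_of_le_of_ne (Subgroup.card_le_card_group M) fun e => hMt (eq_top_of_card_eq _ e)
  have hMc : PCen p M := fun y hy => mem_center_iff.mpr fun z =>
    Subtype.ext (mem_center_iff.mp (hP y (by simpa using congrArg Subtype.val hy)) z)
  have hxc : x ^ p ∈ center P := hP _ hx
  have hyp : (g * x * g⁻¹) ^ p = x ^ p := by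
    rw [conj_pow, mem_center_iff.mp hxc g, mul_inv_cancel_right]
  have key : ⁅(⟨_, hyM⟩ : M), (⟨x, hxM⟩ : M)⁻¹⁆ ^ p = 1 :=
    ih _ hlt rfl (hpP.to_subgroup M) hMc ⟨_, hyM⟩ _ (Subtype.ext (by
      simp only [SubgroupClass.coe_pow, Subgroup.coe_one]; rw [hyp, hx]))
  have key' : ⁅g * x * g⁻¹, x⁻¹⁆ ^ p = 1 := by
    have h0 := congrArg M.subtype key
    rw [map_pow, map_commutatorElement, map_inv, map_one] at h0
    exact h0
  have h := mul_pow_prime hp2 (hP _ key') key'
  rw [hyp, inv_pow, inv_mul_cancel] at h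
  rw [← commutatorElement_inv, inv_pow,
    show ⁅g, x⁆ = g * x * g⁻¹ * x⁻¹ from rfl, h, inv_one]

variable (hp2 : p ≠ 2) (hpP : IsPGroup p P) (hP : PCen p P)
include hp2 hpP hP

theorem comm_mem_Om {x : P} (hx : (x ^ p) ^ p = 1) (g : P) : ⁅x, g⁆ ∈ Om hP :=
  comm_pow_eq_one hp2 hpP hP x g hx

theorem mul_pow_of_sq {x y : P} (hx : (x ^ p) ^ p = 1) :
    (x * y) ^ p = x ^ p * y ^ p := by
  rw [mul_pow_prime hp2 (hP _ (comm_mem_Om hp2 hpP hP hx y)) (comm_mem_Om hp2 hpP hP hx y),
    mem_center_iff.mp (hP _ hx) (y ^ p)]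

/-- Quotients by `Ω₁` are again `p`-central. -/
theorem pcen_quotient [(Om hP).Normal] : PCen p (P ⧸ Om hP) := by
  intro q hq
  obtain ⟨x, rfl⟩ := QuotientGroup.mk'_surjective _ q
  rw [← map_pow, QuotientGroup.mk'_apply, QuotientGroup.eq_one_iff, mem_Om] at hq
  refine mem_center_iff.mpr fun z => ?_
  obtain ⟨z, rfl⟩ := QuotientGroup.mk'_surjective _ z
  refine (commutatorElement_eq_one_iff_mul_comm.mp ?_).symm
  rw [← map_commutatorElement, QuotientGroup.mk'_apply, QuotientGroup.eq_one_iff]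
  exact comm_mem_Om hp2 hpP hP hq z

/-- `Ω₂`, with the `p`-th power map into `Ω₁`. -/
def Om2 : Subgroup P where
  carrier := {x | (x ^ p) ^ p = 1}
  one_mem' := by simp
  mul_mem' := by
    intro a b ha hb
    show ((a * b) ^ p) ^ p = 1
    rw [mul_pow_of_sq hp2 hpP hP ha,
      (show Commute (a ^ p) (b ^ p) from mem_center_iff.mp (hP _ hb) (a ^ p)).mul_pow, ha, hb, mul_one]
  inv_mem' := by
    intro a ha
    show (a⁻¹ ^ p) ^ p = 1
    rw [inv_pow, inv_pow, ha, inv_one]

theorem mem_Om2 {x : P} : x ∈ Om2 hp2 hpP hP ↔ (x ^ p) ^ p = 1 := Iff.rfl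

/-- The `p`-th power homomorphism on `Ω₂`. -/
def powHom : Om2 hp2 hpP hP →* P where
  toFun x := (x : P) ^ p
  map_one' := one_pow p
  map_mul' x _ := mul_pow_of_sq hp2 hpP hP x.2

theorem powHom_range_le : (powHom hp2 hpP hP).range ≤ Om hP ⊓ Pw p P := by
  rintro _ ⟨x, rfl⟩
  exact ⟨x.2, pow_mem_Pw (x : P)⟩

theorem card_Om_quotient [(Om hP).Normal] :
    Nat.card (Om (pcen_quotient hp2 hpP hP)) = Nat.card (powHom hp2 hpP hP).range := by
  let f := (QuotientGroup.mk' (Om hP)).comp (Om2 hp2 hpP hP).subtype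
  have h1 : f.range = Om (pcen_quotient hp2 hpP hP) := by
    ext q
    obtain ⟨x, rfl⟩ := QuotientGroup.mk'_surjective _ q
    rw [mem_Om, ← map_pow, QuotientGroup.mk'_apply, QuotientGroup.mk'_apply,
      QuotientGroup.eq_one_iff, mem_Om]
    constructor
    · rintro ⟨y, hy⟩
      have h2 : ((x ^ p : P) : P ⧸ Om hP) = ((y : P) ^ p : P) := by
        rw [QuotientGroup.mk_pow, QuotientGroup.mk_pow]; exact congrArg (· ^ p) hy.symm
      rw [QuotientGroup.eq, mem_Om] at h2
      have hc : Commute (x ^ p)⁻¹ ((y : P) ^ p) := mem_center_iff.mp (hP _ y.2) _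
      rw [hc.mul_pow, y.2, mul_one, inv_pow, inv_eq_one] at h2
      exact h2
    · intro hx
      exact ⟨⟨x, hx⟩, rfl⟩
  have h3 : f.ker = (powHom hp2 hpP hP).ker := by
    ext x
    rw [MonoidHom.mem_ker, MonoidHom.mem_ker]
    exact (QuotientGroup.eq_one_iff _).trans Iff.rfl
  rw [← h1, ← index_ker, ← index_ker, h3]

theorem card_Om_quotient_le [(Om hP).Normal] :
    Nat.card (Om (pcen_quotient hp2 hpP hP)) ≤ Nat.card (Om hP) := by
  rw [card_Om_quotient hp2 hpP hP]
  exact card_le_of_le ((powHom_range_le hp2 hpP hP).trans inf_le_left)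

omit hp2 hpP hP in
/-- A nontrivial `p`-group has a nontrivial element killed by `p`. -/
theorem Om_ne_bot (hpP : IsPGroup p P) (hP : PCen p P) [Nontrivial P] : Om hP ≠ ⊥ := by
  obtain ⟨z, -, -, hz⟩ := Regular.exists_central_order_p hpP (N := ⊤) top_ne_bot
  intro h
  have : z ∈ Om hP := mem_Om.mpr (hz ▸ pow_orderOf_eq_one z)
  rw [h, mem_bot] at this
  rw [this, orderOf_one] at hz
  exact hp.out.ne_one hz.symm

omit hp2 hpP hP in
/-- `|P : P^p| ≤ |Ω₁(P)|`. -/
theorem index_Pw_le (hp2 : p ≠ 2) : ∀ {P : Type u} [Group P] [Finite P], IsPGroup p P →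
    ∀ hP : PCen p P, (Pw p P).index ≤ Nat.card (Om hP) := by
  intro P _ _
  induction hN : Nat.card P using Nat.strong_induction_on generalizing P with
  | _ N ih =>
  intro hpP hP
  subst hN
  rcases subsingleton_or_nontrivial P with hs | hs
  · rw [Subsingleton.elim (Pw p P) ⊤, index_top]
    exact Nat.one_le_iff_ne_zero.mpr Nat.card_pos.ne'
  haveI := Om_normal hP
  have hlt : Nat.card (P ⧸ Om hP) < Nat.card P := by
    have h1 := (Om hP).card_mul_index
    rw [index_eq_card] at h1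
    rw [← h1]
    exact lt_mul_of_one_lt_left Nat.card_pos
      (Subgroup.one_lt_card_iff_ne_bot _ |>.mpr (Om_ne_bot hpP hP))
  have h := ih _ hlt rfl (hpP.to_quotient _) (pcen_quotient hp2 hpP hP)
  rw [← map_Pw _ (QuotientGroup.mk'_surjective (Om hP)), index_map, QuotientGroup.ker_mk',
    (MonoidHom.range_eq_top.mpr (QuotientGroup.mk'_surjective (Om hP))), index_top, mul_one] at h
  calc (Pw p P).index = (Pw p P).relIndex (Pw p P ⊔ Om hP) * (Pw p P ⊔ Om hP).index :=
        (relIndex_mul_index le_sup_left).symm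
    _ ≤ (Pw p P).relIndex (Om hP) * Nat.card ↥(Pw p P ⊓ Om hP) := by
        rw [sup_comm, relIndex_sup_right, sup_comm]
        refine Nat.mul_le_mul_left _ (h.trans ?_)
        rw [card_Om_quotient hp2 hpP hP, inf_comm]
        exact card_le_of_le (powHom_range_le hp2 hpP hP)
    _ = Nat.card (Om hP) := by
        rw [← inf_relIndex_right, relIndex, ← Nat.card_congr (subgroupOfEquivOfLe
          (inf_le_right : Pw p P ⊓ Om hP ≤ Om hP)).toEquiv, index_mul_card]

/-- If `|Ω₂ / Ω₁| ≤ p` then `P / Ω₁` is cyclic. -/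
theorem isCyclic_quotient_Om [(Om hP).Normal]
    (hsmall : Nat.card (powHom hp2 hpP hP).range ≤ p) : IsCyclic (P ⧸ Om hP) := by
  by_contra hnc
  obtain ⟨A, -, -, hA, hAcard⟩ := Regular.exists_normal_elem_sq hp2 (hpP.to_quotient (Om hP)) ⊤
    (fun h => hnc (Subgroup.topEquiv.isCyclic.mp h))
  have hle : A ≤ Om (pcen_quotient hp2 hpP hP) := fun a ha => mem_Om.mpr (hA.2 a ha)
  have := (card_le_of_le hle).trans ((card_Om_quotient hp2 hpP hP).le.trans hsmall)
  rw [hAcard] at this
  nlinarith [hp.out.one_lt]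

end Cfsg.Agent.Lib.H66.RankTwo
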