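import Cfsg.Agent.Lib.H66.RankTwo.PCentral
import Cfsg.Agent.Lib.Metacyclic.Arith
import Cfsg.Prelude.Def_CaseTheorems

/-!
`p`-groups of rank two, `p` odd: the centraliser `C` of a normal elementary subgroup `E` of order
`p ^ 2`, and the action of an element outside `C`.
-/

set_option autoImplicit false
set_option linter.style.haveILetI false
set_option linter.unusedSectionVars false

namespace Cfsg.Agent.Lib.H66.RankTwo

open Subgroup
open scoped commutatorElement

universe u

variable {G : Type u} [Group G] [Finite G] {p : ℕ} [hp : Fact p.Prime]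

/-- `E` is normal elementary abelian of order `p ^ 2` in a group of `p`-rank at most two. -/
structure Setup (p : ℕ) (G : Type u) [Group G] (E : Subgroup G) : Prop where
  odd : p ≠ 2
  isP : IsPGroup p G
  rank : Cfsg.PRankLE p 2 G
  normal : E.Normal
  elem : Cfsg.IsElementaryAbelian p E
  card : Nat.card E = p ^ 2

variable {E : Subgroup G} (S : Setup p G E)
include S

/-- The elements killed by `p` centralising `E` lie in `E`. -/
theorem Setup.omega {x : G} (hx : x ∈ centralizer (E : Set G)) (hxp : x ^ p = 1) : x ∈ E := by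
  by_contra hxE
  have hA : Cfsg.IsElementaryAbelian p (closure (insert x (E : Set G))) := by
    refine ElemAbelian.closure ?_ ?_
    · rintro a (rfl | ha) b (rfl | hb)
      · rfl
      · exact (mem_centralizer_iff.mp hx b hb).symm
      · exact mem_centralizer_iff.mp hx a ha
      · exact congrArg Subtype.val (S.elem.1.is_comm.comm ⟨a, ha⟩ ⟨b, hb⟩)
    · rintro a (rfl | ha)
      · exact hxp
      · exact S.elem.2 a ha
  have hle : E ≤ closure (insert x (E : Set G)) := fun e he => subset_closure (Set.mem_insert_of_mem _ he)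
  have hlt : E < closure (insert x (E : Set G)) :=
    lt_of_le_of_ne hle fun e => hxE (e ▸ subset_closure (Set.mem_insert _ _))
  have h := S.rank _ hA.1 hA.2
  refine hlt.ne (eq_of_le_of_card_ge hle (h.trans S.card.ge))

theorem Setup.le_C : E ≤ centralizer (E : Set G) := fun a ha => mem_centralizer_iff.mpr fun b hb =>
  congrArg Subtype.val (S.elem.1.is_comm.comm ⟨b, hb⟩ ⟨a, ha⟩)

theorem Setup.commute_E {c e : G} (hc : c ∈ centralizer (E : Set G)) (he : e ∈ E) : Commute e c :=
  mem_centralizer_iff.mp hc e he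

theorem Setup.pcen : PCen p (centralizer (E : Set G)) := fun x hx => mem_center_iff.mpr fun y =>
  Subtype.ext (S.commute_E y.2 (S.omega x.2 (by simpa using congrArg Subtype.val hx))).eq.symm

theorem Setup.isP_C : IsPGroup p (centralizer (E : Set G)) := S.isP.to_subgroup _

theorem Setup.Om_eq : Om S.pcen = E.subgroupOf (centralizer (E : Set G)) := by
  ext x
  rw [mem_Om, mem_subgroupOf]
  exact ⟨fun hx => S.omega x.2 (by simpa using congrArg Subtype.val hx),
    fun hx => Subtype.ext (by simpa using S.elem.2 _ hx)⟩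

theorem Setup.index_Pw : (Pw p (centralizer (E : Set G))).index ≤ p ^ 2 := by
  refine (index_Pw_le S.odd S.isP_C S.pcen).trans (le_of_eq ?_)
  rw [S.Om_eq, Nat.card_congr (subgroupOfEquivOfLe S.le_C).toEquiv, S.card]

/-- The central part of `E`. -/
def Zc (E : Subgroup G) : Subgroup G := E ⊓ center G

omit S in
theorem Zc_le : Zc E ≤ E := inf_le_left

theorem Setup.Zc_data (hC : centralizer (E : Set G) ≠ ⊤) :
    Nat.card (Zc E) = p ∧ (∀ g : G, ∀ e ∈ E, ⁅g, e⁆ ∈ Zc E) := by
  haveI := S.normal
  haveI := S.isP.isNilpotent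
  have hne : E ≠ ⊥ := fun h => by
    have := S.card; rw [h, card_bot] at this
    exact absurd this.symm (Nat.one_lt_pow two_ne_zero hp.out.one_lt).ne'
  obtain ⟨z, hzE, hzc, hz⟩ := Regular.exists_central_order_p S.isP hne
  have hlt : Zc E < E := lt_of_le_of_ne inf_le_left fun h => hC (eq_top_iff.mpr fun g _ =>
    mem_centralizer_iff.mpr fun e he => (mem_center_iff.mp (h.ge he).2 g).symm)
  obtain ⟨k, hk⟩ := IsPGroup.iff_card.mp (S.isP.to_subgroup (Zc E))
  have h1 : Nat.card (Zc E) < Nat.card E :=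
    lt_of_le_of_ne (card_le_of_le hlt.le) fun e => hlt.ne (eq_of_le_of_card_ge hlt.le e.ge)
  rw [hk, S.card, Nat.pow_lt_pow_iff_right hp.out.one_lt] at h1
  have h2 : p ∣ Nat.card (Zc E) := hz ▸ orderOf_dvd_natCard _ (mem_inf.mpr ⟨hzE, hzc⟩)
  have hkc : Nat.card (Zc E) = p := by
    rcases k with _ | k
    · rw [hk, pow_zero] at h2; exact absurd (Nat.le_of_dvd one_pos h2) (not_le.mpr hp.out.one_lt)
    · rw [hk, show k + 1 = 1 by omega, pow_one]
  refine ⟨hkc, ?_⟩
  -- `⁅G, E⁆` is a proper subgroup of `E`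
  set D := ⁅E, (⊤ : Subgroup G)⁆ with hD
  have hDle : D ≤ E := commutator_le_left _ _
  have hDlt : D < E := by
    refine lt_of_le_of_ne hDle fun heq => hne ?_
    have hk' : ∀ j, E ≤ (⊤ : Subgroup G).lowerCentralSeries j := by
      intro j
      induction j with
      | zero => exact le_top
      | succ j ih =>
        rw [Subgroup.lowerCentralSeries_succ, ← heq]
        exact commutator_mono ih le_rfl
    have hb := hk' (Group.nilpotencyClass G)
    rwa [Subgroup.lowerCentralSeries_nilpotencyClass, le_bot_iff] at hb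
  have hDZ : D ≤ Zc E := by
    rcases eq_or_ne D ⊥ with h | h
    · rw [h]; exact bot_le
    obtain ⟨d, hdD, hdc, hd⟩ := Regular.exists_central_order_p S.isP h
    obtain ⟨j, hj⟩ := IsPGroup.iff_card.mp (S.isP.to_subgroup D)
    have h3 : Nat.card D < Nat.card E :=
      lt_of_le_of_ne (card_le_of_le hDle) fun e => hDlt.ne (eq_of_le_of_card_ge hDle e.ge)
    rw [hj, S.card, Nat.pow_lt_pow_iff_right hp.out.one_lt] at h3
    have heq : zpowers d = D := eq_of_le_of_card_ge (zpowers_le.mpr hdD) (by
      rw [Nat.card_zpowers, hd, hj]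
      calc p ^ j ≤ p ^ 1 := Nat.pow_le_pow_right hp.out.pos (by omega)
        _ = p := pow_one p)
    rw [← heq]
    exact zpowers_le.mpr (mem_inf.mpr ⟨hDle hdD, hdc⟩)
  intro g e he
  have : ⁅e, g⁆ ∈ D := commutator_mem_commutator he (mem_top g)
  rw [← commutatorElement_inv]
  exact inv_mem (hDZ this)

/-- An element of `E` centralised by an element outside `C` is central. -/
theorem Setup.inf_centralizer {x : G} (hx : x ∉ centralizer (E : Set G)) {e : G} (he : e ∈ E)
    (hc : Commute x e) : e ∈ Zc E := by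
  have hC : centralizer (E : Set G) ≠ ⊤ := fun h => hx (h ▸ mem_top x)
  by_contra hez
  obtain ⟨hZ, -⟩ := S.Zc_data hC
  have hlt : Zc E < E ⊓ centralizer ({x} : Set G) := by
    refine lt_of_le_of_ne (le_inf inf_le_left ?_) fun h => hez (h.ge ?_)
    · exact fun z hz => mem_centralizer_singleton_iff.mpr (mem_center_iff.mp hz.2 x).symm
    · exact mem_inf.mpr ⟨he, mem_centralizer_singleton_iff.mpr hc.eq.symm⟩
  obtain ⟨k, hk⟩ := IsPGroup.iff_card.mp (S.isP.to_subgroup (E ⊓ centralizer ({x} : Set G)))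
  have h1 : Nat.card (Zc E) < Nat.card ↥(E ⊓ centralizer ({x} : Set G)) :=
    lt_of_le_of_ne (card_le_of_le hlt.le) fun e => hlt.ne (eq_of_le_of_card_ge hlt.le e.ge)
  rw [hZ, hk] at h1
  have h2 : E ⊓ centralizer ({x} : Set G) = E := by
    refine eq_of_le_of_card_ge inf_le_left ?_
    rw [hk, S.card]
    refine Nat.pow_le_pow_right hp.out.pos ?_
    by_contra hk2
    exact absurd (h1.trans_le (Nat.pow_le_pow_right hp.out.pos (show k ≤ 1 by omega))) (by simp)
  refine hx (mem_centralizer_iff.mpr fun a ha => ?_)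
  exact mem_centralizer_singleton_iff.mp (mem_inf.mp (h2.ge ha)).2

theorem Setup.index_C (hC : centralizer (E : Set G) ≠ ⊤) :
    (centralizer (E : Set G)).index = p := by
  haveI := S.normal
  obtain ⟨hZ, hcomm⟩ := S.Zc_data hC
  obtain ⟨e, he, hez⟩ : ∃ e ∈ E, e ∉ Zc E := by
    refine SetLike.exists_of_lt (lt_of_le_of_ne inf_le_left fun h => ?_)
    have := S.card
    have h2 : p ^ 1 = p ^ 2 := by
      rw [pow_one, ← S.card]; exact hZ.symm.trans (congrArg (fun X : Subgroup G => Nat.card X) h)
    have := Nat.pow_right_injective hp.out.two_le h2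
    omega
  have hCe : centralizer ({e} : Set G) = centralizer (E : Set G) := by
    refine le_antisymm (fun x hx => ?_) fun x hx => ?_
    · by_contra hxC
      exact hez (S.inf_centralizer hxC he (mem_centralizer_singleton_iff.mp hx))
    · exact mem_centralizer_singleton_iff.mpr (mem_centralizer_iff.mp hx e he).symm
  have h1 := (MaxClass.card_le_and_surj ⊤ (Zc E) e fun g _ => hcomm g e he).1
  rw [inf_top_eq, hCe, Subgroup.card_top, hZ, ← (centralizer (E : Set G)).card_mul_index] at h1
  have h2 := Nat.le_of_mul_le_mul_left h1 Nat.card_pos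
  obtain ⟨k, hk⟩ := S.isP.index (centralizer (E : Set G))
  rw [hk] at h2 ⊢
  rcases k with _ | k
  · exact absurd (index_eq_one.mp (hk.trans (pow_zero p))) hC
  · have h3 : k + 1 ≤ 1 := (Nat.pow_le_pow_iff_right hp.out.one_lt).mp (h2.trans_eq (pow_one p).symm)
    rw [show k + 1 = 1 by omega, pow_one]

theorem Setup.pow_mem_C (x : G) : x ^ p ∈ centralizer (E : Set G) := by
  haveI := S.normal
  by_cases hC : centralizer (E : Set G) = ⊤
  · rw [hC]; exact mem_top _
  haveI : (centralizer (E : Set G)).Normal := inferInstance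
  have := pow_card_eq_one' (x := (x : G ⧸ centralizer (E : Set G)))
  rw [← index_eq_card, S.index_C hC, ← QuotientGroup.mk_pow, QuotientGroup.eq_one_iff] at this
  exact this

/-- The `p`-th powers of elements of `C`, inside `G`. -/
def UG (p : ℕ) (E : Subgroup G) : Subgroup G :=
  (Pw p (centralizer (E : Set G))).map (centralizer (E : Set G)).subtype

theorem Setup.index_Pw_le_of_notMem {x : G} (hx : x ^ p ∉ UG p E) :
    (Pw p G).index ≤ p ^ 2 := by
  have hle : UG p E ≤ Pw p G := by
    rw [UG, map_le_iff_le_comap, Pw, closure_le]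
    rintro _ ⟨a, rfl⟩
    exact pow_mem_Pw (a : G)
  have hlt : UG p E < Pw p G := lt_of_le_of_ne hle fun h => hx (h.symm ▸ pow_mem_Pw x)
  have hidx : (UG p E).index ≤ p ^ 3 := by
    rw [UG, index_map_subtype]
    by_cases hC : centralizer (E : Set G) = ⊤
    · rw [show (centralizer (E : Set G)).index = 1 from index_eq_one.mpr hC, mul_one]
      exact S.index_Pw.trans (Nat.pow_le_pow_right hp.out.pos (by omega))
    · rw [S.index_C hC, pow_succ]
      exact Nat.mul_le_mul_right p S.index_Pw
  obtain ⟨a, ha⟩ := S.isP.index (Pw p G)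
  obtain ⟨b, hb⟩ := S.isP.index (UG p E)
  have hd := relIndex_mul_index hle
  obtain ⟨c, hc⟩ := (Nat.dvd_prime_pow hp.out).mp
    (show (UG p E).relIndex (Pw p G) ∣ p ^ b from hb ▸ Dvd.intro _ hd)
  have hne : (UG p E).relIndex (Pw p G) ≠ 1 := fun h => hlt.not_ge (relIndex_eq_one.mp h)
  rw [hc.2] at hne hd
  rw [ha, hb, ← pow_add] at hd
  have := Nat.pow_right_injective hp.out.two_le hd
  have hc0 : c ≠ 0 := fun h => hne (by rw [h, pow_zero])
  rw [hb] at hidx
  have hb3 := (Nat.pow_le_pow_iff_right hp.out.one_lt).mp hidx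
  rw [ha]
  exact Nat.pow_le_pow_right hp.out.pos (by omega)

theorem Setup.sup_zpowers {x : G} (hx : x ∉ centralizer (E : Set G)) :
    centralizer (E : Set G) ⊔ zpowers x = ⊤ := by
  haveI := S.normal
  have hC : centralizer (E : Set G) ≠ ⊤ := fun h => hx (h ▸ mem_top x)
  have hd := relIndex_mul_index (le_sup_left : centralizer (E : Set G) ≤ centralizer (E : Set G) ⊔ zpowers x)
  rw [S.index_C hC] at hd
  rcases (Nat.dvd_prime hp.out).mp (Dvd.intro_left _ hd) with h | h
  · exact index_eq_one.mp h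
  · rw [h] at hd
    have h1 : (centralizer (E : Set G)).relIndex (centralizer (E : Set G) ⊔ zpowers x) = 1 :=
      (Nat.mul_eq_right hp.out.ne_zero).mp hd
    exact absurd (relIndex_eq_one.mp h1 (mem_sup_right (mem_zpowers x))) hx

/-- If the only elements of `C` commuting with `x` are central, `C_G(x)` has order `p ^ 2`. -/
theorem Setup.card_centralizer {x : G} (hx : x ∉ centralizer (E : Set G))
    (h : ∀ d ∈ centralizer (E : Set G), Commute x d → d ∈ Zc E) :
    Nat.card (centralizer ({x} : Set G)) = p ^ 2 := by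
  have hC : centralizer (E : Set G) ≠ ⊤ := fun h => hx (h ▸ mem_top x)
  obtain ⟨hZ, -⟩ := S.Zc_data hC
  have hle : centralizer ({x} : Set G) ⊓ centralizer (E : Set G) ≤ Zc E := fun d hd =>
    h d hd.2 (mem_centralizer_singleton_iff.mp hd.1).symm
  have hup : Nat.card (centralizer ({x} : Set G)) ≤ p ^ 2 := by
    rw [← card_mul_index ((centralizer (E : Set G)).subgroupOf (centralizer ({x} : Set G))), sq]
    refine Nat.mul_le_mul ?_ ?_
    · rw [← card_map_of_injective (subtype_injective _), subgroupOf_map_subtype, inf_comm]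
      exact (card_le_of_le hle).trans hZ.le
    · rw [← relIndex, ← S.index_C hC, ← relIndex_top_right]
      exact relIndex_le_of_le_right le_top index_ne_zero_of_finite
  refine le_antisymm hup ?_
  have hlt : Zc E < centralizer ({x} : Set G) := lt_of_le_of_ne
    (fun z hz => mem_centralizer_singleton_iff.mpr (mem_center_iff.mp hz.2 x).symm)
    fun e => hx (S.le_C (Zc_le (e.ge (mem_centralizer_singleton_iff.mpr rfl))))
  obtain ⟨k, hk⟩ := IsPGroup.iff_card.mp (S.isP.to_subgroup (centralizer ({x} : Set G)))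
  have h1 : Nat.card (Zc E) < Nat.card (centralizer ({x} : Set G)) :=
    lt_of_le_of_ne (card_le_of_le hlt.le) fun e => hlt.ne (eq_of_le_of_card_ge hlt.le e.ge)
  rw [hZ, hk] at h1
  rw [hk]
  refine Nat.pow_le_pow_right hp.out.pos ?_
  by_contra hk2
  exact absurd (h1.trans_le (Nat.pow_le_pow_right hp.out.pos (show k ≤ 1 by omega))) (by simp)

omit S in
theorem exists_zpow_eq {Z : Subgroup G} (hZ : Nat.card Z = p) {z : G} (hz : z ∈ Z) (hz1 : z ≠ 1)
    {w : G} (hw : w ∈ Z) : ∃ i : ℕ, w = z ^ i := by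
  have h : zpowers z = Z := by
    refine eq_of_le_of_card_ge (zpowers_le.mpr hz) (le_of_eq ?_)
    have h1 : orderOf z ∣ p := hZ ▸ orderOf_dvd_natCard Z hz
    rw [Nat.card_zpowers, hZ, ((Nat.dvd_prime hp.out).mp h1).resolve_left
      (fun e => hz1 (orderOf_eq_one_iff.mp e))]
  obtain ⟨i, hi⟩ := mem_powers_iff_mem_zpowers.mpr (h.symm ▸ hw)
  exact ⟨i, hi.symm⟩

omit S in
theorem Zc_commute {z : G} (hz : z ∈ Zc E) (g : G) : Commute z g :=
  (mem_center_iff.mp hz.2 g).symm

omit S in
theorem Zc_pow (S : Setup p G E) {z : G} (hz : z ∈ Zc E) : z ^ p = 1 := S.elem.2 z hz.1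

end Cfsg.Agent.Lib.H66.RankTwo
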